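import Cfsg.Agent.OddHalf.NI.ModelChev
import Cfsg.Agent.OddHalf.NI.Mult.SL
import Cfsg.Agent.H557.InvForm
set_option linter.all false

-- part: H557/SLTwist
section
/-!
helper557: the outer automorphisms of `SL(2, K)` given by the matrices `[0 1; c 0]`.

* `theta c` : conjugation by `[0 1; c 0]`;
* `conj_eq` : an element acting as `uu a ↦ vv (c a)`, `vv b ↦ uu (b / c)` acts as `theta c`;
* `twist` : over a finite field of odd order such an element `k` is conjugate to `φ (dd d) k`;
* `square_case` : if `c = y²` then `k` is conjugate to `φ (uu y⁻¹) φ (ww (-y⁻¹)) k`.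
-/

set_option autoImplicit false
set_option linter.unusedSectionVars false

namespace Cfsg.Agent.H557.SLTwist

open Cfsg.Agent.FixBN.FieldRGD (uu vv dd ww)
open scoped MatrixGroups

variable {K : Type*} [Field K] {Y : Type*} [Group Y]

/-- conjugation by `[0 1; c 0]` -/
def theta (c : K) (hc : c ≠ 0) : SL(2, K) →* SL(2, K) where
  toFun g := ⟨!![g.1 1 1, g.1 1 0 / c; c * g.1 0 1, g.1 0 0], by
    have h1 : g.1 0 0 * g.1 1 1 - g.1 0 1 * g.1 1 0 = 1 := by
      have := g.2
      rwa [Matrix.det_fin_two] at this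
    rw [Matrix.det_fin_two_of]
    have h2 : g.1 1 1 * g.1 0 0 - g.1 1 0 / c * (c * g.1 0 1) = g.1 0 0 * g.1 1 1 - g.1 0 1 * g.1 1 0 := by
      field_simp
    exact h2.trans h1⟩
  map_one' := by
    apply Subtype.ext
    show !![(1 : Matrix (Fin 2) (Fin 2) K) 1 1, (1 : Matrix (Fin 2) (Fin 2) K) 1 0 / c;
      c * (1 : Matrix (Fin 2) (Fin 2) K) 0 1, (1 : Matrix (Fin 2) (Fin 2) K) 0 0] = 1
    ext i j
    fin_cases i <;> fin_cases j <;> simp
  map_mul' g g' := by
    apply Subtype.ext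
    show !![(g.1 * g'.1) 1 1, (g.1 * g'.1) 1 0 / c; c * (g.1 * g'.1) 0 1, (g.1 * g'.1) 0 0] =
      !![g.1 1 1, g.1 1 0 / c; c * g.1 0 1, g.1 0 0] * !![g'.1 1 1, g'.1 1 0 / c; c * g'.1 0 1, g'.1 0 0]
    rw [Matrix.mul_fin_two]
    simp only [Matrix.mul_apply, Fin.sum_univ_two]
    congr 1
    ext i j
    fin_cases i <;> fin_cases j
    · simp
      field_simp
      ring
    · simp
      field_simp
      ring
    · simp
      ring
    · simp
      field_simp
      ring

theorem coe_theta (c : K) (hc : c ≠ 0) (g : SL(2, K)) :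
    (theta c hc g).1 = !![g.1 1 1, g.1 1 0 / c; c * g.1 0 1, g.1 0 0] := rfl

theorem hom_ext {f g : SL(2, K) →* Y} (h1 : ∀ a, f (uu a) = g (uu a)) (h2 : ∀ a, f (vv a) = g (vv a)) :
    f = g := by
  have h3 : MonoidHom.eqLocus f g = ⊤ :=
    Cfsg.Agent.OddHalf.NI.Mult.mem_of_up_lo (fun a => h1 a) (fun a => h2 a)
  ext x
  have : x ∈ MonoidHom.eqLocus f g := by rw [h3]; exact Subgroup.mem_top x
  exact this

theorem theta_uu (c : K) (hc : c ≠ 0) (a : K) : theta c hc (uu a) = vv (c * a) := by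
  apply Subtype.ext
  rw [coe_theta]
  show !![(!![1, a; 0, 1] : Matrix (Fin 2) (Fin 2) K) 1 1, (!![1, a; 0, 1] : Matrix (Fin 2) (Fin 2) K) 1 0 / c;
    c * (!![1, a; 0, 1] : Matrix (Fin 2) (Fin 2) K) 0 1, (!![1, a; 0, 1] : Matrix (Fin 2) (Fin 2) K) 0 0] =
    !![1, 0; c * a, 1]
  simp

theorem theta_vv (c : K) (hc : c ≠ 0) (b : K) : theta c hc (vv b) = uu (b / c) := by
  apply Subtype.ext
  rw [coe_theta]
  show !![(!![1, 0; b, 1] : Matrix (Fin 2) (Fin 2) K) 1 1, (!![1, 0; b, 1] : Matrix (Fin 2) (Fin 2) K) 1 0 / c;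
    c * (!![1, 0; b, 1] : Matrix (Fin 2) (Fin 2) K) 0 1, (!![1, 0; b, 1] : Matrix (Fin 2) (Fin 2) K) 0 0] =
    !![1, b / c; 0, 1]
  simp

/-- an element acting as `theta c` on the root groups acts as `theta c` -/
theorem conj_eq (φ : SL(2, K) →* Y) (k : Y) {c : K} (hc : c ≠ 0)
    (h1 : ∀ a, k * φ (uu a) * k⁻¹ = φ (vv (c * a))) (h2 : ∀ b, k * φ (vv b) * k⁻¹ = φ (uu (b / c))) (g : SL(2, K)) :
    k * φ g * k⁻¹ = φ (theta c hc g) := by
  have h3 : ((MulAut.conj k).toMonoidHom.comp φ) = φ.comp (theta c hc) := by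
    refine hom_ext (fun a => ?_) (fun b => ?_)
    · show k * φ (uu a) * k⁻¹ = φ (theta c hc (uu a))
      rw [h1, theta_uu]
    · show k * φ (vv b) * k⁻¹ = φ (theta c hc (vv b))
      rw [h2, theta_vv]
  exact DFunLike.congr_fun h3 g

/-- over a finite field of odd order `α² - c β²` takes every value -/
theorem exists_norm [Finite K] (h2 : (2 : K) ≠ 0) {c : K} (hc : c ≠ 0) (e : K) : ∃ α β : K, α ^ 2 - c * β ^ 2 = e := by
  classical
  have : Fintype K := Fintype.ofFinite K
  have hodd : Fintype.card K % 2 = 1 := FiniteField.odd_card_of_char_ne_two (by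
    intro h
    apply h2
    have := CharP.cast_eq_zero K (ringChar K)
    rw [h] at this
    exact_mod_cast this)
  obtain ⟨a, b, hab⟩ := FiniteField.exists_root_sum_quadratic (R := K)
    (f := Polynomial.X ^ 2 - Polynomial.C e) (g := Polynomial.C (-c) * Polynomial.X ^ 2)
    (by rw [Polynomial.degree_X_pow_sub_C (by norm_num)]; rfl)
    (by rw [Polynomial.degree_C_mul_X_pow _ (neg_ne_zero.2 hc)]; rfl) hodd
  refine ⟨a, b, ?_⟩
  simp only [Polynomial.eval_sub, Polynomial.eval_pow, Polynomial.eval_X, Polynomial.eval_C,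
    Polynomial.eval_mul] at hab
  linear_combination hab

/-- **twist**: `k` is conjugate to `φ (dd d) k` -/
theorem twist [Finite K] (h2 : (2 : K) ≠ 0) (φ : SL(2, K) →* Y) (k : Y) {c : K} (hc : c ≠ 0)
    (hk : ∀ g, k * φ g * k⁻¹ = φ (theta c hc g)) (d : K) (hd : d ≠ 0) :
    ∃ g, φ g * k * (φ g)⁻¹ = φ (dd d hd) * k := by
  obtain ⟨α, β, hab⟩ := exists_norm h2 hc d⁻¹
  have hdet : (!![d * α, d * β; c * β, α] : Matrix (Fin 2) (Fin 2) K).det = 1 := by
    rw [Matrix.det_fin_two_of]
    have : d * α * α - d * β * (c * β) = d * (α ^ 2 - c * β ^ 2) := by ring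
    rw [this, hab, mul_inv_cancel₀ hd]
  refine ⟨⟨_, hdet⟩, ?_⟩
  set g : SL(2, K) := ⟨_, hdet⟩ with hg
  have e1 : g = dd d hd * theta c hc g := by
    apply Subtype.ext
    show !![d * α, d * β; c * β, α] = !![d, 0; 0, d⁻¹] * (theta c hc g).1
    rw [coe_theta, hg]
    show !![d * α, d * β; c * β, α] = !![d, 0; 0, d⁻¹] * !![α, c * β / c; c * (d * β), d * α]
    rw [Matrix.mul_fin_two]
    congr 1
    ext i j
    fin_cases i <;> fin_cases j
    · simp
    · simp
      field_simp
      exact Or.inl trivial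
    · simp
      field_simp
    · simp
      field_simp
  have h3 : φ g * k * (φ g)⁻¹ = φ g * (k * φ g * k⁻¹)⁻¹ * k := by group
  rw [h3, hk, ← map_inv, ← map_mul]
  have h4 : g * (theta c hc g)⁻¹ = dd d hd := by
    nth_rewrite 1 [e1]
    group
  rw [h4]

/-- **square case** -/
theorem square_case (φ : SL(2, K) →* Y) (k : Y) {c : K} (hc : c ≠ 0)
    (hk : ∀ g, k * φ g * k⁻¹ = φ (theta c hc g)) {y : K} (hy : c = y ^ 2) (hy0 : y ≠ 0) :
    φ (vv y) * k * (φ (vv y))⁻¹ = φ (uu y⁻¹) * φ (ww (-y⁻¹) (neg_ne_zero.2 (inv_ne_zero hy0))) * k := by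
  have h3 : φ (vv y) * k * (φ (vv y))⁻¹ = φ (vv y) * (k * φ (vv y) * k⁻¹)⁻¹ * k := by group
  rw [h3, hk, theta_vv, ← map_inv, ← map_mul, ← map_mul]
  congr 2
  have h4 : (uu (y / c))⁻¹ = (uu (-(y / c)) : SL(2, K)) := by
    rw [inv_eq_iff_mul_eq_one, ← Cfsg.Agent.FixBN.FieldRGD.uu_add, add_neg_cancel]
    exact Subtype.ext Matrix.one_fin_two.symm
  rw [h4]
  apply Subtype.ext
  show !![1, 0; y, 1] * !![1, -(y / c); 0, 1] = !![1, y⁻¹; 0, 1] * !![0, -y⁻¹; -(-y⁻¹)⁻¹, 0]
  rw [Matrix.mul_fin_two, Matrix.mul_fin_two, hy]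
  congr 1
  ext i j
  fin_cases i <;> fin_cases j
  · simp
    field_simp
  · simp
    field_simp
  · simp
  · simp
    field_simp
    simp

end Cfsg.Agent.H557.SLTwist
end

-- part: H557/Toral
section
/-!
helper557: the involutions of the Chevalley groups of types `G2`, `F4`, `E8` over finite fields of odd order are
conjugate into the torus.

* `rp_act` : a representative of `w` acts on the root coordinates by scalars;
* `exists_theta` : an involution over `w`, `w α_i = - α_i`, acts as `theta c` on the `SL(2, K)` of the node `i`;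
* `shorter` : it is conjugate into a shorter cell if `c` is a square;
* `last_case` : there is no involution over `w ≠ 1` for which all the `c` are nonsquares and the nodes are orthogonal;
* `toral` : **every involution is conjugate into the torus**.
-/

set_option autoImplicit false
set_option linter.unusedSectionVars false

namespace Cfsg.Agent.H557.Toral

open CoxeterSystem Cfsg.Agent.ChevalleyStructure.CoxeterGeom Cfsg.Agent.Tits.Roots Cfsg.Agent.Tits.Core
  Cfsg.Agent.Tits.RootComb Cfsg.Agent.Nodes.Comb Cfsg.Agent.Nodes.Reps Cfsg.Agent.Nodes.BNOf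
  Cfsg.Agent.Nodes.RGDLib Cfsg.Agent.Nodes.Bruhat
open Cfsg.Lie Cfsg.Agent.ChevalleyStructure Cfsg.Agent.ChevalleyStructure.Elts
  Cfsg.Agent.ChevalleyStructure.NPerm Cfsg.Agent.ChevalleyStructure.CoxeterGeomTypes Cfsg.Agent.Nodes.RGDChev
  Cfsg.Agent.KFacts.RgdField Cfsg.Agent.KFacts.RgdChevCoord Cfsg.Agent.OddHalf.NI.ModelChev
  Cfsg.Agent.H557.SLTwist Cfsg.Agent.H557.InvForm
open Cfsg.Agent.FixBN.FieldRGD (uu vv dd ww)
open scoped MatrixGroups

universe u

/-! ### representatives act by scalars -/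

section General

variable {I W Y F : Type*} [Fintype I] [DecidableEq I] [Group W] [Group Y] [Field F] {M : CoxeterMatrix I}
  {cs : CoxeterSystem M W} {A : I → I → ℤ} {h : IsCartan M A} {p : ℕ} {T : Subgroup Y} {n : I → Y}
  {X : (I → ℤ) → Subgroup Y} {x : (I → ℤ) → F → Y} {χ : (I → ℤ) → Y → F}

theorem rp_act (C : Coords cs h T n X x χ) (hN : NSys M T n) {w : W} {g : Y} (hg : Rp cs hN w g)
    {r : I → ℤ} (hr : IsRoot cs h r) :
    ∃ c : F, c ≠ 0 ∧ ∀ a, g * x r a * g⁻¹ = x (rep cs h w r) (c * a) := by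
  have key : ∀ ω : List I, ∃ k, Rp cs hN (cs.wordProd ω) k ∧
      ∃ c : F, c ≠ 0 ∧ ∀ a, k * x r a * k⁻¹ = x (rep cs h (cs.wordProd ω) r) (c * a) := by
    intro ω
    induction ω with
    | nil =>
      refine ⟨1, by rw [wordProd_nil]; exact rp_one, 1, one_ne_zero, fun a => ?_⟩
      rw [wordProd_nil, map_one, Module.End.one_apply, one_mul, one_mul, inv_one, mul_one]
    | cons i ω ih =>
      obtain ⟨k, hk, c, hc, e⟩ := ih
      obtain ⟨c', hc', e'⟩ := C.nact i _ (hr.act (cs.wordProd ω))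
      refine ⟨n i * k, ?_, c' * c, mul_ne_zero hc' hc, fun a => ?_⟩
      · rw [wordProd_cons]; exact (rp_simple cs hN i).mul hk
      · have h1 : n i * k * x r a * (n i * k)⁻¹ = n i * (k * x r a * k⁻¹) * (n i)⁻¹ := by group
        rw [h1, e, e', wordProd_cons, rep_mul_apply, mul_assoc]
  obtain ⟨ω, rfl⟩ := cs.wordProd_surjective w
  obtain ⟨k, hk, c, hc, e⟩ := key ω
  have ht := hk.unique hg
  have Cr := C.coord r hr
  refine ⟨c * χ r (k⁻¹ * g), mul_ne_zero hc (Cr.chi_ne_zero ht), fun a => ?_⟩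
  have h1 : g * x r a * g⁻¹ = k * ((k⁻¹ * g) * x r a * (k⁻¹ * g)⁻¹) * k⁻¹ := by group
  rw [h1, Cr.act _ ht, e, mul_assoc]

end General

section Words

variable {I W : Type*} [Fintype I] [DecidableEq I] [Group W] {M : CoxeterMatrix I}
  {cs : CoxeterSystem M W} {A : I → I → ℤ} {h : IsCartan M A}

theorem length_simple_mul_lt {w : W} (hw : w * w = 1) {i : I} (hi : rep cs h w (sr i) ≤ 0) :
    cs.length (cs.simple i * w) < cs.length w := by
  have h0 : ¬ 0 ≤ rep cs h w (sr i) := fun h1 => ((isRoot_sr cs h i).act w).not_pos_neg h1 hi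
  have h1 : ¬ cs.length w < cs.length (w * cs.simple i) := fun h2 => h0 ((lt_iff' cs h w i).1 h2)
  have h2 := cs.length_mul_simple_ne w i
  have h3 : cs.simple i * w = (w * cs.simple i)⁻¹ := by
    rw [mul_inv_rev, cs.inv_simple, inv_eq_of_mul_eq_one_left hw]
  rw [h3, cs.length_inv]
  omega

theorem length_conj_lt {w : W} (hw : w * w = 1) {i : I} (hi : rep cs h w (sr i) ≤ 0)
    (hne : rep cs h w (sr i) ≠ -sr i) :
    cs.length (cs.simple i * w * cs.simple i) < cs.length w := by
  have h1 := length_simple_mul_lt hw hi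
  have hr : IsRoot cs h (-rep cs h w (sr i)) := ((isRoot_sr cs h i).act w).neg
  have h3 : 0 ≤ rep cs h (cs.simple i) (-rep cs h w (sr i)) := by
    refine hr.simple_nonneg (neg_nonneg.2 hi) i fun h4 => hne ?_
    exact neg_eq_iff_eq_neg.1 h4
  have h4 : rep cs h (cs.simple i * w) (sr i) ≤ 0 := by
    rw [rep_mul_apply]
    rw [map_neg] at h3
    exact neg_nonneg.1 h3
  have h5 : ¬ 0 ≤ rep cs h (cs.simple i * w) (sr i) := fun h6 =>
    ((isRoot_sr cs h i).act _).not_pos_neg h6 h4
  have h6 : ¬ cs.length (cs.simple i * w) < cs.length (cs.simple i * w * cs.simple i) := fun h7 =>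
    h5 ((lt_iff' cs h _ i).1 h7)
  omega

theorem exists_neg_simple {w : W} (hw : w ≠ 1) : ∃ i, rep cs h w (sr i) ≤ 0 := by
  by_contra hcon
  push Not at hcon
  apply hw
  refine eq_one_of_nonneg cs h _ fun j => ?_
  by_contra h1
  exact hcon j (((isRoot_sr cs h j).act w).not_nonneg_iff.1 h1)

theorem rep_simple_orth {i j : I} (hA : A i j = 0) : rep cs h (cs.simple i) (sr j) = sr j := by
  rw [rep_simple_eq]
  have : pairing A i (sr j) = A i j := by
    unfold pairing
    rw [Finset.sum_eq_single j]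
    · rw [sr_self, mul_one]
    · intro k _ hk
      rw [sr_ne hk, mul_zero]
    · intro hk; exact absurd (Finset.mem_univ j) hk
  rw [this, hA, zero_smul, sub_zero]

theorem wordProd_apply (L : List I) (x : I → ℤ) {k : I} (hk : k ∉ L) : rep cs h (cs.wordProd L) x k = x k := by
  induction L with
  | nil => rw [wordProd_nil, map_one, Module.End.one_apply]
  | cons i L ih =>
    rw [List.mem_cons, not_or] at hk
    rw [wordProd_cons, rep_mul_apply, rep_simple_apply cs h i _ k hk.1, ih hk.2]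

theorem wordProd_orth (L : List I) {j : I} (hA : ∀ i ∈ L, A i j = 0) : rep cs h (cs.wordProd L) (sr j) = sr j := by
  induction L with
  | nil => rw [wordProd_nil, map_one, Module.End.one_apply]
  | cons i L ih =>
    rw [wordProd_cons, rep_mul_apply, ih fun k hk => hA k (List.mem_cons_of_mem _ hk)]
    exact rep_simple_orth (hA i List.mem_cons_self)

theorem wordProd_neg (L : List I) (hnd : L.Nodup) (hA : ∀ i ∈ L, ∀ j ∈ L, i ≠ j → A i j = 0) {j : I} (hj : j ∈ L) :
    rep cs h (cs.wordProd L) (sr j) = -sr j := by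
  induction L with
  | nil => simp at hj
  | cons i L ih =>
    rw [List.nodup_cons] at hnd
    have hA' : ∀ i ∈ L, ∀ j ∈ L, i ≠ j → A i j = 0 := fun a ha b hb =>
      hA a (List.mem_cons_of_mem _ ha) b (List.mem_cons_of_mem _ hb)
    rw [wordProd_cons, rep_mul_apply]
    by_cases hji : j = i
    · subst hji
      rw [wordProd_orth L fun k hk => hA k (List.mem_cons_of_mem _ hk) j List.mem_cons_self (by
        rintro rfl; exact hnd.1 hk), rep_simple_sr]
    · have hjL : j ∈ L := by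
        rcases List.mem_cons.1 hj with h1 | h1
        · exact absurd h1 hji
        · exact h1
      rw [ih hnd.2 hA' hjL, map_neg, rep_simple_orth (hA i List.mem_cons_self j hj (Ne.symm hji))]

/-- an involution which maps to its negative every simple root that it makes negative, with orthogonal such roots, is
the product of the corresponding simple reflections -/
theorem eq_wordProd {w : W} (hw : w * w = 1) (L : List I) (hnd : L.Nodup)
    (hL : ∀ i, i ∈ L ↔ rep cs h w (sr i) = -sr i) (hneg : ∀ i, rep cs h w (sr i) ≤ 0 → i ∈ L)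
    (hA : ∀ i ∈ L, ∀ j ∈ L, i ≠ j → A i j = 0) : w * cs.wordProd L = 1 := by
  refine eq_one_of_nonneg cs h _ fun j => ?_
  change 0 ≤ rep cs h (w * cs.wordProd L) (sr j)
  by_cases hj : j ∈ L
  · rw [rep_mul_apply, wordProd_neg L hnd hA hj, map_neg, (hL j).1 hj, neg_neg]
    exact sr_nonneg j
  · by_contra hcon
    have hr := (isRoot_sr cs h j).act (w * cs.wordProd L)
    have hle := hr.not_nonneg_iff.1 hcon
    -- `v α_j = α_j + y`
    set y : I → ℤ := rep cs h (cs.wordProd L) (sr j) - sr j with hy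
    have hyk : ∀ k, k ∉ L → y k = 0 := by
      intro k hk
      rw [hy, Pi.sub_apply, wordProd_apply L _ hk, sub_self]
    have hwneg : ∀ z : I → ℤ, (∀ k, k ∉ L → z k = 0) → rep cs h w z = -z := by
      intro z hz
      have h5 : z = ∑ k, z k • sr k := by
        funext k
        rw [Finset.sum_apply, Finset.sum_eq_single k (fun b _ hb => by
          rw [Pi.smul_apply, sr_ne hb.symm, smul_zero]) (by simp), Pi.smul_apply, sr_self, smul_eq_mul,
          mul_one]
      conv_lhs => rw [h5]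
      conv_rhs => rw [h5]
      rw [map_sum, ← Finset.sum_neg_distrib]
      refine Finset.sum_congr rfl fun k _ => ?_
      rw [map_smul]
      by_cases hk : k ∈ L
      · rw [(hL k).1 hk, smul_neg]
      · rw [hz k hk, zero_smul, zero_smul, neg_zero]
    have e1 : rep cs h (w * cs.wordProd L) (sr j) = rep cs h w (sr j) - y := by
      rw [rep_mul_apply]
      have : rep cs h (cs.wordProd L) (sr j) = sr j + y := by rw [hy]; abel
      rw [this, map_add, hwneg y hyk, sub_eq_add_neg]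
    have hwj : 0 ≤ rep cs h w (sr j) := by
      by_contra h1
      exact hj (hneg j (((isRoot_sr cs h j).act w).not_nonneg_iff.1 h1))
    have hsupp : ∀ k, k ∉ L → rep cs h w (sr j) k = 0 := by
      intro k hk
      have h1 : (0 : ℤ) ≤ rep cs h w (sr j) k := hwj k
      have h2 : rep cs h (w * cs.wordProd L) (sr j) k ≤ (0 : ℤ) := hle k
      rw [e1, Pi.sub_apply, hyk k hk] at h2
      omega
    have h1 := hwneg _ hsupp
    rw [← rep_mul_apply, hw, map_one, Module.End.one_apply] at h1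
    refine hj ((hL j).2 ?_)
    conv_rhs => rw [h1, neg_neg]

end Words

section Chev

variable {D : ChevalleyDatum} {l : ℕ} {M : CoxeterMatrix (Fin l)} (hp : IsType D l M) {K : Type u} [Field K]

/-! ### the group of the node `i` -/

theorem xc_sr_inj (i : Fin l) : Function.Injective (xc (K := K) hp (sr i)) := by
  rw [← vec_simple hp i]
  exact xc_inj hp (simple_lt hp.inList (lt_rank hp i))

theorem ww_mul_ww : (ww (1 : K) one_ne_zero) * ww 1 one_ne_zero = dd (-1) (neg_ne_zero.2 one_ne_zero) := by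
  apply Subtype.ext
  show !![(0 : K), 1; -1⁻¹, 0] * !![(0 : K), 1; -1⁻¹, 0] = !![(-1 : K), 0; 0, (-1)⁻¹]
  rw [Matrix.mul_fin_two]
  congr 1
  ext i j
  fin_cases i <;> fin_cases j <;> simp

theorem nc_mul_nc (i : Fin l) : nc hp K i * nc hp K i = th hp (Pi.mulSingle i (-1)) := by
  rw [← sl_ww, ← map_mul, ww_mul_ww, th_mulSingle]
  rfl

/-- `n_i x_i(a) n_i⁻¹ = x_{-i}(-a)` -/
theorem nc_conj (i : Fin l) (a : K) :
    nc hp K i * xc hp (sr i) a * (nc hp K i)⁻¹ = xc hp (-sr i) (-a) := by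
  rw [← sl_ww, ← sl_uu, ← sl_vv, ← map_inv, ← map_mul, ← map_mul]
  congr 1
  rw [mul_inv_eq_iff_eq_mul]
  apply Subtype.ext
  show !![(0 : K), 1; -1⁻¹, 0] * !![1, a; 0, 1] = !![1, 0; -a, 1] * !![(0 : K), 1; -1⁻¹, 0]
  rw [Matrix.mul_fin_two, Matrix.mul_fin_two]
  congr 1
  ext i j
  fin_cases i <;> fin_cases j <;> simp

/-- the character of the node `i` -/
noncomputable def chi (A : Fin l → Fin l → ℤ) (i : Fin l) (b : Fin l → Kˣ) : Kˣ := ∏ k, b k ^ A k i

theorem th_mem (b : Fin l → Kˣ) : th hp b ∈ TT D K := (thT hp b).2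

theorem ch_th (i : Fin l) (b : Fin l → Kˣ) :
    ch hp (sr i) (th hp b) = (chi (cartanOf D l) i b : K) := by
  have h1 := chH_thT hp (simple_lt hp.inList (lt_rank hp i)) b
  have h2 : chH hp (simple_lt hp.inList (lt_rank hp i)) (thT hp b) = ch hp (vec D l (D.simple i)) (th hp b) := rfl
  rw [h2, vec_simple hp i] at h1
  rw [h1]
  unfold chi
  rw [Units.coe_prod]
  exact Finset.prod_congr rfl fun k _ => by rw [Units.val_zpow_eq_zpow_val]; rfl

include hp in
theorem cartan_neg' {k r : ℕ} (hk : k < D.rank) (hr : r < D.nroots) : D.cartan k (D.neg r) = -D.cartan k r := by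
  have hk' : k < l := by rw [← hp.rank_eq]; exact hk
  have h1 := pairing_vec hp ⟨k, hk'⟩ (neg_lt hp.inList hr)
  have h2 := pairing_vec hp ⟨k, hk'⟩ hr
  rw [vec_neg hp hr] at h1
  show D.cartan ((⟨k, hk'⟩ : Fin l) : ℕ) (D.neg r) = -D.cartan ((⟨k, hk'⟩ : Fin l) : ℕ) r
  rw [← h1, ← h2]
  unfold pairing
  rw [← Finset.sum_neg_distrib]
  exact Finset.sum_congr rfl fun j _ => by rw [Pi.neg_apply, mul_neg]

theorem ch_th_neg (i : Fin l) (b : Fin l → Kˣ) :
    ch hp (-sr i) (th hp b) = ((chi (cartanOf D l) i b)⁻¹ : Kˣ) := by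
  have hs := simple_lt hp.inList (lt_rank hp i)
  have h1 := chH_thT hp (neg_lt hp.inList hs) b
  have h2 : chH hp (neg_lt hp.inList hs) (thT hp b) = ch hp (vec D l (D.neg (D.simple i))) (th hp b) := rfl
  rw [h2, vec_neg hp hs, vec_simple hp i] at h1
  rw [h1]
  unfold chi
  rw [← Finset.prod_inv_distrib, Units.coe_prod]
  refine Finset.prod_congr rfl fun k _ => ?_
  rw [← zpow_neg, Units.val_zpow_eq_zpow_val, cartan_neg' hp (lt_rank hp k) hs]
  rfl

theorem th_conj (i : Fin l) (b : Fin l → Kˣ) (a : K) :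
    th hp b * xc hp (sr i) a * (th hp b)⁻¹ = xc hp (sr i) ((chi (cartanOf D l) i b : Kˣ) * a) := by
  have hs := simple_lt hp.inList (lt_rank hp i)
  have h1 := (act hp hs (th_mem hp b)).2 a
  rw [vec_simple hp i] at h1
  rw [h1, ch_th]

theorem th_conj_neg (i : Fin l) (b : Fin l → Kˣ) (a : K) :
    th hp b * xc hp (-sr i) a * (th hp b)⁻¹ = xc hp (-sr i) (((chi (cartanOf D l) i b)⁻¹ : Kˣ) * a) := by
  have hs := simple_lt hp.inList (lt_rank hp i)
  have h1 := (act hp (neg_lt hp.inList hs) (th_mem hp b)).2 a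
  rw [vec_neg hp hs, vec_simple hp i] at h1
  rw [h1, ch_th_neg]

theorem ww_eq (b : K) (hb : b ≠ 0) : ww b hb = uu b * (vv (-b⁻¹) * uu b) := by
  apply Subtype.ext
  show !![0, b; -b⁻¹, 0] = !![1, b; 0, 1] * (!![1, 0; -b⁻¹, 1] * !![1, b; 0, 1])
  rw [Matrix.mul_fin_two, Matrix.mul_fin_two]
  congr 1
  ext i j
  fin_cases i <;> fin_cases j <;> simp [hb]

theorem ww_eq_dd (b : K) (hb : b ≠ 0) : ww b hb = dd b hb * ww 1 one_ne_zero := by
  apply Subtype.ext
  show !![0, b; -b⁻¹, 0] = !![b, 0; 0, b⁻¹] * !![(0 : K), 1; -1⁻¹, 0]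
  rw [Matrix.mul_fin_two]
  congr 1
  ext i j
  fin_cases i <;> fin_cases j <;> simp

/-- `n_i th(b) n_i⁻¹` -/
theorem nc_th (i : Fin l) (b : Fin l → Kˣ) :
    nc hp K i * th hp b * (nc hp K i)⁻¹ = th hp (b * Pi.mulSingle i (chi (cartanOf D l) i b)⁻¹) := by
  set χ := chi (cartanOf D l) i b with hχ
  have e1 : th hp b * nc hp K i * (th hp b)⁻¹ = sl hp i (dd (χ : K) χ.ne_zero) * nc hp K i := by
    have e2 : th hp b * nc hp K i * (th hp b)⁻¹ =
        (th hp b * xc hp (sr i) 1 * (th hp b)⁻¹) * ((th hp b * xc hp (-sr i) (-1) * (th hp b)⁻¹) *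
          (th hp b * xc hp (sr i) 1 * (th hp b)⁻¹)) := by
      have e3 : nc hp K i = xc hp (sr i) 1 * (xc hp (-sr i) (-1) * xc hp (sr i) 1) := by
        rw [← sl_ww, ww_eq, map_mul, map_mul, sl_uu, sl_vv, inv_one]
      rw [e3]; group
    rw [e2, th_conj, th_conj_neg, ← hχ, ← sl_ww, ← map_mul, ← ww_eq_dd, ww_eq, map_mul, map_mul, sl_uu, sl_vv]
    congr 3
    · rw [mul_one]
    · rw [Units.val_inv_eq_inv_val, mul_neg, mul_one]
    · rw [mul_one]
  have e2 : nc hp K i * th hp b * (nc hp K i)⁻¹ = (sl hp i (dd (χ : K) χ.ne_zero))⁻¹ * th hp b := by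
    have : nc hp K i * th hp b * (nc hp K i)⁻¹ =
        (th hp b * nc hp K i * (th hp b)⁻¹ * (nc hp K i)⁻¹)⁻¹ * th hp b := by group
    rw [this, e1]; group
  rw [e2, ← th_mulSingle, ← map_inv, ← map_mul, mul_comm]
  congr 2
  funext k
  rw [Pi.inv_apply]
  by_cases hk : k = i
  · subst hk
    rw [Pi.mulSingle_eq_same, Pi.mulSingle_eq_same]
  · rw [Pi.mulSingle_eq_of_ne hk, Pi.mulSingle_eq_of_ne hk, inv_one]

/-! ### products of orthogonal reflections -/

section Orth

variable {W : Type*} [Group W] (cs : CoxeterSystem M W)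

theorem nc_comm_X [Finite K] (p : ℕ) [Fact p.Prime] [CharP K p] {i j : Fin l} (hij : i ≠ j)
    (hA : cartanOf D l i j = 0) (g g' : SL(2, K)) :
    sl hp i g * sl hp j g' = sl hp j g' * sl hp i g := by
  have : Finite M.Group := finite_W hp M.toCoxeterSystem
  have R := rgd (K := K) hp M.toCoxeterSystem p
  have hX : ∀ (i : Fin l) (a : K), xc hp (sr i) a ∈ XX D l K (sr i) := by
    intro i a
    have : xc hp (sr i) a ∈ (XX D l K (sr i) : Set ↥(D.group K)) := by
      rw [coe_X hp i]; exact ⟨a, sl_uu hp i a⟩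
    exact this
  have hX' : ∀ (i : Fin l) (a : K), xc hp (-sr i) a ∈ XX D l K (-sr i) := by
    intro i a
    have : xc hp (-sr i) a ∈ (XX D l K (-sr i) : Set ↥(D.group K)) := by
      rw [coe_X_neg hp i]; exact ⟨a, sl_vv hp i a⟩
    exact this
  -- the centralizer of the second group
  have key : ∀ g, ∀ x : Fin l → ℤ, (x = sr i ∨ x = -sr i) → ∀ a ∈ XX D l K x, a * sl hp j g = sl hp j g * a := by
    intro g x hx a ha
    have h3 : Subgroup.comap (sl hp (K := K) j) (Subgroup.centralizer {a}) = ⊤ := by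
      refine Cfsg.Agent.OddHalf.NI.Mult.mem_of_up_lo (fun b => ?_) (fun b => ?_)
      · rw [Subgroup.mem_comap, Subgroup.mem_centralizer_iff]
        intro z hz
        rw [Set.mem_singleton_iff] at hz
        subst hz
        have h4 := root_comm R hij hA hx (Or.inl rfl) ha (hX j b)
        rw [← sl_uu] at h4
        exact h4
      · rw [Subgroup.mem_comap, Subgroup.mem_centralizer_iff]
        intro z hz
        rw [Set.mem_singleton_iff] at hz
        subst hz
        have h4 := root_comm R hij hA hx (Or.inr rfl) ha (hX' j b)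
        rw [← sl_vv] at h4
        exact h4
    have h4 : g ∈ Subgroup.comap (sl hp (K := K) j) (Subgroup.centralizer {a}) := by
      rw [h3]; exact Subgroup.mem_top g
    rw [Subgroup.mem_comap, Subgroup.mem_centralizer_iff] at h4
    exact h4 a rfl
  have h3 : Subgroup.comap (sl hp (K := K) i) (Subgroup.centralizer {sl hp j g'}) = ⊤ := by
    refine Cfsg.Agent.OddHalf.NI.Mult.mem_of_up_lo (fun b => ?_) (fun b => ?_)
    · rw [Subgroup.mem_comap, Subgroup.mem_centralizer_iff]
      intro z hz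
      rw [Set.mem_singleton_iff] at hz
      subst hz
      have h4 := key g' _ (Or.inl rfl) _ (hX i b)
      rw [← sl_uu] at h4
      exact h4.symm
    · rw [Subgroup.mem_comap, Subgroup.mem_centralizer_iff]
      intro z hz
      rw [Set.mem_singleton_iff] at hz
      subst hz
      have h4 := key g' _ (Or.inr rfl) _ (hX' i b)
      rw [← sl_vv] at h4
      exact h4.symm
  have h4 : g ∈ Subgroup.comap (sl hp (K := K) i) (Subgroup.centralizer {sl hp j g'}) := by
    rw [h3]; exact Subgroup.mem_top g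
  rw [Subgroup.mem_comap, Subgroup.mem_centralizer_iff] at h4
  exact (h4 _ rfl).symm

/-- the product of the `n_i` -/
noncomputable def k0 (L : List (Fin l)) : ↥(D.group K) := (L.map (nc hp K)).prod

theorem k0_cons (i : Fin l) (L : List (Fin l)) : k0 hp (K := K) (i :: L) = nc hp K i * k0 hp L := by
  unfold k0
  rw [List.map_cons, List.prod_cons]

theorem rp_k0 [Finite K] (p : ℕ) [Fact p.Prime] [CharP K p] (L : List (Fin l)) :
    Rp cs (rgd (K := K) hp cs p).nsys (cs.wordProd L) (k0 hp L) := by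
  induction L with
  | nil => rw [wordProd_nil]; exact rp_one
  | cons i L ih => rw [wordProd_cons, k0_cons]; exact (rp_simple cs _ i).mul ih

/-- pairwise orthogonal nodes -/
def Orth (A : Fin l → Fin l → ℤ) (L : List (Fin l)) : Prop := ∀ i ∈ L, ∀ j ∈ L, i ≠ j → A i j = 0

variable {L : List (Fin l)}

theorem Orth.tail {A : Fin l → Fin l → ℤ} {i : Fin l} {L : List (Fin l)} (h : Orth A (i :: L)) : Orth A L :=
  fun a ha b hb => h a (List.mem_cons_of_mem _ ha) b (List.mem_cons_of_mem _ hb)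

theorem k0_comm [Finite K] (p : ℕ) [Fact p.Prime] [CharP K p] {i : Fin l} (hi : i ∉ L)
    (hA : ∀ j ∈ L, cartanOf D l i j = 0) (g : SL(2, K)) :
    sl hp i g * k0 hp L = k0 hp L * sl hp i g := by
  induction L with
  | nil => unfold k0; rw [List.map_nil, List.prod_nil, one_mul, mul_one]
  | cons j L ih =>
    rw [List.mem_cons, not_or] at hi
    have h1 := nc_comm_X hp p hi.1 (hA j List.mem_cons_self) g (ww 1 one_ne_zero)
    rw [sl_ww] at h1
    rw [k0_cons, ← mul_assoc, h1, mul_assoc, ih hi.2 fun k hk => hA k (List.mem_cons_of_mem _ hk), mul_assoc]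

/-- `k₀ x_i(a) k₀⁻¹ = x_{-i}(-a)` -/
theorem k0_conj [Finite K] (p : ℕ) [Fact p.Prime] [CharP K p] (hnd : L.Nodup) (hA : Orth (cartanOf D l) L)
    {i : Fin l} (hi : i ∈ L) (a : K) :
    k0 hp L * xc hp (sr i) a * (k0 hp L)⁻¹ = xc hp (-sr i) (-a) := by
  induction L with
  | nil => simp at hi
  | cons j L ih =>
    rw [List.nodup_cons] at hnd
    have h0 : ∀ k ∈ L, k ≠ j := fun k hk h => hnd.1 (h ▸ hk)
    rw [k0_cons]
    by_cases hij : i = j
    · subst hij
      have h1 := k0_comm hp p hnd.1 (fun k hk => hA i List.mem_cons_self k (List.mem_cons_of_mem _ hk)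
        (h0 k hk).symm) (uu a)
      rw [sl_uu] at h1
      have h2 : nc hp K i * k0 hp L * xc hp (sr i) a * (nc hp K i * k0 hp L)⁻¹ =
          nc hp K i * (k0 hp L * xc hp (sr i) a * (k0 hp L)⁻¹) * (nc hp K i)⁻¹ := by group
      rw [h2, ← h1, mul_inv_cancel_right, nc_conj]
    · have hiL : i ∈ L := by
        rcases List.mem_cons.1 hi with h1 | h1
        · exact absurd h1 hij
        · exact h1
      have h2 : nc hp K j * k0 hp L * xc hp (sr i) a * (nc hp K j * k0 hp L)⁻¹ =
          nc hp K j * (k0 hp L * xc hp (sr i) a * (k0 hp L)⁻¹) * (nc hp K j)⁻¹ := by group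
      rw [h2, ih hnd.2 hA.tail hiL]
      have h3 := nc_comm_X hp p (Ne.symm hij) (hA j List.mem_cons_self i hi (Ne.symm hij))
        (ww 1 one_ne_zero) (vv (-a))
      rw [sl_ww, sl_vv] at h3
      rw [h3, mul_inv_cancel_right]

open Classical in
/-- `k₀ th(b) k₀⁻¹` -/
theorem k0_th [Finite K] (p : ℕ) [Fact p.Prime] [CharP K p] (hnd : L.Nodup) (hA : Orth (cartanOf D l) L)
    (b : Fin l → Kˣ) :
    k0 hp L * th hp b * (k0 hp L)⁻¹ =
      th hp (fun j => if j ∈ L then b j * (chi (cartanOf D l) j b)⁻¹ else b j) := by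
  induction L with
  | nil =>
    unfold k0
    rw [List.map_nil, List.prod_nil, one_mul, inv_one, mul_one]
    congr 1
  | cons i L ih =>
    rw [List.nodup_cons] at hnd
    have h0 : ∀ k ∈ L, k ≠ i := fun k hk h => hnd.1 (h ▸ hk)
    rw [k0_cons]
    have h2 : nc hp K i * k0 hp L * th hp b * (nc hp K i * k0 hp L)⁻¹ =
        nc hp K i * (k0 hp L * th hp b * (k0 hp L)⁻¹) * (nc hp K i)⁻¹ := by group
    rw [h2, ih hnd.2 hA.tail, nc_th]
    congr 1
    set b' : Fin l → Kˣ := fun j => if j ∈ L then b j * (chi (cartanOf D l) j b)⁻¹ else b j with hb'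
    have hchi : chi (cartanOf D l) i b' = chi (cartanOf D l) i b := by
      unfold chi
      refine Finset.prod_congr rfl fun k _ => ?_
      by_cases hk : k ∈ L
      · rw [hA k (List.mem_cons_of_mem _ hk) i List.mem_cons_self (h0 k hk), zpow_zero, zpow_zero]
      · rw [hb']
        simp only [if_neg hk]
    rw [hchi]
    funext j
    rw [Pi.mul_apply]
    by_cases hj : j = i
    · subst hj
      rw [Pi.mulSingle_eq_same, if_pos List.mem_cons_self, hb']
      simp only [if_neg hnd.1]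
    · rw [Pi.mulSingle_eq_of_ne hj, mul_one, hb']
      by_cases hjL : j ∈ L
      · simp only [if_pos hjL, if_pos (List.mem_cons_of_mem _ hjL)]
      · have h5 : ¬ j ∈ i :: L := by
          rw [List.mem_cons, not_or]; exact ⟨hj, hjL⟩
        simp only [if_neg hjL, if_neg h5]

open Classical in
/-- `k₀²` -/
theorem k0_sq [Finite K] (p : ℕ) [Fact p.Prime] [CharP K p] (hnd : L.Nodup) (hA : Orth (cartanOf D l) L) :
    k0 hp (K := K) L * k0 hp L = th hp (fun j => if j ∈ L then -1 else 1) := by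
  induction L with
  | nil =>
    unfold k0
    rw [List.map_nil, List.prod_nil, one_mul]
    symm
    exact map_one _
  | cons i L ih =>
    rw [List.nodup_cons] at hnd
    have h0 : ∀ k ∈ L, k ≠ i := fun k hk h => hnd.1 (h ▸ hk)
    have h1 := k0_comm hp p hnd.1 (fun k hk => hA i List.mem_cons_self k (List.mem_cons_of_mem _ hk)
      (h0 k hk).symm) (ww (1 : K) one_ne_zero)
    rw [sl_ww] at h1
    have h2 : k0 hp (K := K) (i :: L) * k0 hp (i :: L) = nc hp K i * nc hp K i * (k0 hp L * k0 hp L) := by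
      rw [k0_cons]
      calc _ = nc hp K i * (k0 hp L * nc hp K i) * k0 hp L := by group
        _ = _ := by rw [← h1]; group
    rw [h2, ih hnd.2 hA.tail, nc_mul_nc, ← map_mul]
    congr 1
    funext j
    rw [Pi.mul_apply]
    by_cases hj : j = i
    · subst hj
      rw [Pi.mulSingle_eq_same, if_pos List.mem_cons_self, if_neg hnd.1, mul_one]
    · rw [Pi.mulSingle_eq_of_ne hj, one_mul]
      by_cases hjL : j ∈ L
      · rw [if_pos hjL, if_pos (List.mem_cons_of_mem _ hjL)]
      · rw [if_neg hjL, if_neg]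
        rw [List.mem_cons, not_or]; exact ⟨hj, hjL⟩

/-- **the last case**: an involution `th(b) k₀` has square scalars. -/
theorem last_case [Finite K] (p : ℕ) [Fact p.Prime] [CharP K p] (hth : ∀ t : Fin l → Kˣ, th hp t = 1 → t = 1)
    (hnd : L.Nodup) (hA : Orth (cartanOf D l) L) (b : Fin l → Kˣ) (hk : th hp b * k0 hp L * (th hp b * k0 hp L) = 1)
    {i : Fin l} (hi : i ∈ L) :
    ∃ y : K, y ≠ 0 ∧ ∀ a, th hp b * k0 hp L * xc hp (sr i) a * (th hp b * k0 hp L)⁻¹ = xc hp (-sr i) (y ^ 2 * a) := by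
  classical
  have h1 : th hp b * k0 hp L * (th hp b * k0 hp L) =
      th hp b * (k0 hp L * th hp b * (k0 hp L)⁻¹) * (k0 hp L * k0 hp L) := by group
  rw [h1, k0_th hp p hnd hA, k0_sq hp p hnd hA, ← map_mul, ← map_mul] at hk
  have h2 := congrFun (hth _ hk) i
  simp only [Pi.mul_apply, Pi.one_apply, if_pos hi] at h2
  refine ⟨((b i)⁻¹ : Kˣ), Units.ne_zero _, fun a => ?_⟩
  have h3 : th hp b * k0 hp L * xc hp (sr i) a * (th hp b * k0 hp L)⁻¹ =
      th hp b * (k0 hp L * xc hp (sr i) a * (k0 hp L)⁻¹) * (th hp b)⁻¹ := by group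
  rw [h3, k0_conj hp p hnd hA hi, th_conj_neg]
  congr 1
  have h4 : (chi (cartanOf D l) i b)⁻¹ = -((b i)⁻¹ * (b i)⁻¹) := by
    have h5 : b i * (b i * (chi (cartanOf D l) i b)⁻¹) * (-1) = 1 := h2
    rw [mul_neg, mul_one, neg_eq_iff_eq_neg] at h5
    have h6 : (chi (cartanOf D l) i b)⁻¹ = (b i)⁻¹ * (b i)⁻¹ * (b i * (b i * (chi (cartanOf D l) i b)⁻¹)) := by
      group
    rw [h6, h5, mul_neg, mul_one]
  rw [h4, Units.val_neg, Units.val_mul]
  ring

end Orth

end Chev

end Cfsg.Agent.H557.Toral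
end
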