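import Cfsg.Agent.H557.ToralMain
import Cfsg.Agent.S1035
set_option linter.all false

/-!
helper557: **in the Chevalley groups of types `G2`, `F4`, `E8` over finite fields of odd order every involution is
conjugate into the torus** (`toral_G2`, `toral_F4`, `toral_E8`); the torus is `(Kˣ)^l` (`th_bijective_*`).
-/

set_option autoImplicit false
set_option linter.unusedSectionVars false

namespace Cfsg.Agent.H557.ToralTypes

open Cfsg.Lie Cfsg.Agent.ChevalleyStructure Cfsg.Agent.ChevalleyStructure.CoxeterGeomTypes Cfsg.Agent.Nodes.RGDChev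
  Cfsg.Agent.KFacts.RgdChevCoord Cfsg.Agent.OddHalf.NI.ModelChev Cfsg.Agent.H557.Toral
open Cfsg.Agent.Cit.TypeDet.KindsEF (isTypeG)

universe u

/-- the torus is the image of `th` if its order is `(q - 1) ^ l` and `th` is injective -/
theorem surj_of {D : ChevalleyDatum} {l : ℕ} {M : CoxeterMatrix (Fin l)} (hp : IsType D l M) {K : Type u} [Field K]
    [Fintype K] (hth : ∀ t : Fin l → Kˣ, th hp t = 1 → t = 1)
    (hcard : Nat.card (D.diagonalSubgroup K) = (Fintype.card K - 1) ^ l) {t : ↥(D.group K)} (ht : t ∈ TT D K) :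
    ∃ b, th hp b = t := by
  classical
  have hinj : Function.Injective (thT hp (K := K)) := by
    rw [injective_iff_map_eq_one]
    intro b hb
    apply hth
    show ((thT hp b : ↥(TT D K)) : ↥(D.group K)) = 1
    rw [hb]; rfl
  have hc1 : Nat.card (Fin l → Kˣ) = (Fintype.card K - 1) ^ l := by
    rw [Nat.card_fun, Nat.card_fin, Nat.card_eq_fintype_card, Fintype.card_units]
  have hle : D.diagonalSubgroup K ≤ D.group K := Cfsg.Agent.ChevalleyStructure.Elts.diagonal_le_group hp.inList K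
  have hc2 : Nat.card ↥(TT D K) = (Fintype.card K - 1) ^ l := by
    rw [← hcard]
    exact Nat.card_congr (Subgroup.subgroupOfEquivOfLe hle).toEquiv
  have : Finite ↥(TT D K) := Nat.finite_of_card_ne_zero (by
    rw [hc2]
    have : 1 < Fintype.card K := Fintype.one_lt_card
    exact pow_ne_zero _ (by omega))
  have hbij : Function.Bijective (thT hp (K := K)) :=
    (Nat.bijective_iff_injective_and_card _).2 ⟨hinj, by rw [hc1, hc2]⟩
  obtain ⟨b, hb⟩ := hbij.2 ⟨t, ht⟩
  exact ⟨b, congrArg Subtype.val hb⟩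

variable {K : Type u} [Field K] [Fintype K]

theorem inj_G2 (t : Fin 2 → Kˣ) (h : th isTypeG t = 1) : t = 1 := funext fun i => th_ker_G2 h i

theorem inj_F4 (t : Fin 4 → Kˣ) (h : th Nodes.KindF.isType t = 1) : t = 1 := funext fun i => th_ker_F4 h i

theorem inj_E8 (t : Fin 8 → Kˣ) (h : th Nodes.KindE.isType8 t = 1) : t = 1 := funext fun i => th_ker_E8 h i

theorem surj_G2 {t : ↥(chevG2.group K)} (ht : t ∈ TT chevG2 K) : ∃ b, th isTypeG b = t :=
  surj_of isTypeG inj_G2 (by
    have := Cfsg.Agent.S1035.result (F := K) rfl (chevG2, 1) (by simp)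
    rwa [one_mul] at this) ht

theorem surj_F4 {t : ↥(chevF4.group K)} (ht : t ∈ TT chevF4 K) : ∃ b, th Nodes.KindF.isType b = t :=
  surj_of Nodes.KindF.isType inj_F4 (by
    have := Cfsg.Agent.S1035.result (F := K) rfl (chevF4, 1) (by simp)
    rwa [one_mul] at this) ht

theorem surj_E8 {t : ↥(chevE8.group K)} (ht : t ∈ TT chevE8 K) : ∃ b, th Nodes.KindE.isType8 b = t :=
  surj_of Nodes.KindE.isType8 inj_E8 (by
    have := Cfsg.Agent.S1035.result (F := K) rfl (chevE8, 1) (by simp)
    rwa [one_mul] at this) ht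

set_option backward.isDefEq.respectTransparency false in
theorem odd_G2 : ∀ i j : Fin 2, i ≠ j → cartanOf chevG2 2 i j ≠ 0 → Odd (cartanOf chevG2 2 i j) ∨ Odd (cartanOf chevG2 2 j i) := by
  decide +kernel

set_option backward.isDefEq.respectTransparency false in
theorem odd_F4 : ∀ i j : Fin 4, i ≠ j → cartanOf chevF4 4 i j ≠ 0 → Odd (cartanOf chevF4 4 i j) ∨ Odd (cartanOf chevF4 4 j i) := by
  decide +kernel

set_option backward.isDefEq.respectTransparency false in
theorem odd_E8 : ∀ i j : Fin 8, i ≠ j → cartanOf chevE8 8 i j ≠ 0 → Odd (cartanOf chevE8 8 i j) ∨ Odd (cartanOf chevE8 8 j i) := by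
  decide +kernel

/-- the prime of a finite field of odd order -/
theorem exists_char (K : Type u) [Field K] [Fintype K] (ho : Odd (Fintype.card K)) :
    ∃ p : ℕ, p.Prime ∧ CharP K p ∧ Odd p := by
  obtain ⟨p, hpc⟩ := CharP.exists K
  have hpp : p.Prime := (CharP.char_is_prime_or_zero K p).resolve_right (CharP.char_ne_zero_of_finite K p)
  refine ⟨p, hpp, hpc, hpp.odd_of_ne_two ?_⟩
  rintro rfl
  have h1 : Even (Fintype.card K) := by
    obtain ⟨n, -, hn⟩ := FiniteField.card K 2
    rw [hn]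
    exact (Nat.even_pow.2 ⟨even_two, n.2.ne'⟩)
  exact (Nat.not_even_iff_odd.2 ho) h1

/-- **involutions of `G2(q)`, `q` odd, are toral** -/
theorem toral_G2 (ho : Odd (Fintype.card K)) {t : ↥(chevG2.group K)} (ht : t * t = 1) :
    ∃ g, g * t * g⁻¹ ∈ TT chevG2 K := by
  obtain ⟨p, hpp, hpc, hp2⟩ := exists_char K ho
  have : Fact p.Prime := ⟨hpp⟩
  exact toral' isTypeG p (CoxeterMatrix.toCoxeterSystem _) hp2 inj_G2 (fun t ht => surj_G2 ht) odd_G2 ht

/-- **involutions of `F4(q)`, `q` odd, are toral** -/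
theorem toral_F4 (ho : Odd (Fintype.card K)) {t : ↥(chevF4.group K)} (ht : t * t = 1) :
    ∃ g, g * t * g⁻¹ ∈ TT chevF4 K := by
  obtain ⟨p, hpp, hpc, hp2⟩ := exists_char K ho
  have : Fact p.Prime := ⟨hpp⟩
  exact toral' Nodes.KindF.isType p (CoxeterMatrix.toCoxeterSystem _) hp2 inj_F4 (fun t ht => surj_F4 ht) odd_F4 ht

/-- **involutions of `E8(q)`, `q` odd, are toral** -/
theorem toral_E8 (ho : Odd (Fintype.card K)) {t : ↥(chevE8.group K)} (ht : t * t = 1) :
    ∃ g, g * t * g⁻¹ ∈ TT chevE8 K := by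
  obtain ⟨p, hpp, hpc, hp2⟩ := exists_char K ho
  have : Fact p.Prime := ⟨hpp⟩
  exact toral' Nodes.KindE.isType8 p (CoxeterMatrix.toCoxeterSystem _) hp2 inj_E8 (fun t ht => surj_E8 ht) odd_E8 ht

end Cfsg.Agent.H557.ToralTypes
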