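import Cfsg.Agent.H557.SubTab
import Cfsg.Agent.H557.SubLink
import Cfsg.Agent.H557.SignTorus
import Cfsg.Agent.H557.InvClass
import Cfsg.Agent.S1092
set_option linter.all false

-- part: H557/TabB4
section
/-!
helper557: tables of the subsystem `B4 of F4`.
Generated by a script; checked by the kernel.
-/

set_option autoImplicit false

namespace Cfsg.Agent.H557.TabB4

open Cfsg.Agent.ChevalleyStructure.WeylStep Cfsg.Agent.H557.SubTab Cfsg.Agent.H557.SumHom

/-- indices of the roots -/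
def tE : List ℕ := [24, 25, 26, 27, 28, 29, 30, 31, 32, 41, 42, 43, 44, 45, 46, 47, 23, 22, 21, 20, 19, 18, 17, 16,
  15, 6, 5, 4, 3, 2, 1, 0]

/-- codes of the root vectors -/
def tV : List ℕ := [39048, 35208, 39304, 34968, 35224, 39320, 35240, 39336, 39592, 35242, 39338, 39594, 39610, 39626,
  39882, 43978, 30856, 34696, 30600, 34936, 34680, 30584, 34664, 30568, 30312, 34662, 30566, 30310, 30294, 30278,
  30022, 25926]

/-- reflection 0 -/
def tr0 : List ℕ := [0, 6, 7, 19, 4, 5, 1, 2, 8, 9, 10, 13, 12, 11, 14, 15, 16, 22, 23, 3, 20, 21, 17, 18, 24, 25, 26,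
  29, 28, 27, 30, 31]

/-- reflection 1 -/
def tr1 : List ℕ := [2, 17, 0, 4, 3, 5, 6, 8, 7, 9, 11, 10, 12, 14, 13, 15, 18, 1, 16, 20, 19, 21, 22, 24, 23, 25, 27,
  26, 28, 30, 29, 31]

/-- reflection 2 -/
def tr2 : List ℕ := [16, 2, 1, 3, 5, 4, 7, 6, 8, 10, 9, 11, 12, 13, 15, 14, 0, 18, 17, 19, 21, 20, 23, 22, 24, 26, 25,
  27, 28, 29, 31, 30]

/-- reflection 3 -/
def tr3 : List ℕ := [10, 1, 11, 3, 4, 12, 6, 13, 14, 25, 0, 2, 5, 7, 8, 15, 26, 17, 27, 19, 20, 28, 22, 29, 30, 9, 16,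
  18, 21, 23, 24, 31]

/-- codes of the coroots -/
def tcd : List ℕ := [35208, 34968, 35224, 34953, 34985, 35497, 34969, 35225, 35241, 39048, 39304, 39320, 43689, 39321,
  39337, 39593, 34696, 34936, 34680, 34951, 34919, 34407, 34935, 34679, 34663, 30856, 30600, 30584, 26215, 30583,
  30567, 30311]

/-- the tables -/
def tab : Tab 4 where
  m := 16
  E := tE
  V := tV
  sm := [3, 1, 0, 9]
  rf := [tr0, tr1, tr2, tr3]
  cd := tcd
  A := [[2, -1, 0, 0], [-2, 2, -1, 0], [0, -1, 2, -1], [0, 0, -1, 2]]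
  wd := [[1], [2], [3], [0, 1, 2, 1, 0]]

/-- orbit table, step 3 -/
def ch3 : List Node := [
  ⟨[0, 0, 0, 1], 39048, 0, 0, 0, 0, [0, 0, 0, 1]⟩,
  ⟨[0, 0, 1, -1], 31112, 1, 0, 0, 3, [1, 1, 2, 0]⟩,
  ⟨[0, 1, -1, 0], 34712, 2, 0, 1, 2, [2, 3, 1, 2]⟩,
  ⟨[2, -1, 0, 0], 34938, 3, 0, 2, 1, [4, 2, 3, 3]⟩,
  ⟨[-2, 1, 0, 0], 34966, 4, 0, 3, 0, [3, 5, 4, 4]⟩,
  ⟨[0, -1, 1, 0], 35192, 5, 0, 4, 1, [5, 4, 6, 5]⟩,
  ⟨[0, 0, -1, 1], 38792, 6, 0, 5, 2, [6, 6, 5, 7]⟩,
  ⟨[0, 0, 0, -1], 30856, 7, 0, 6, 3, [7, 7, 7, 6]⟩]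

/-- orbit table, step 2 -/
def ch2 : List Node := [
  ⟨[0, 0, 1, 0], 35208, 0, 0, 0, 0, [0, 0, 1]⟩,
  ⟨[0, 1, -1, 1], 38808, 1, 0, 0, 2, [1, 2, 0]⟩,
  ⟨[2, -1, 0, 1], 39034, 2, 0, 1, 1, [3, 1, 2]⟩,
  ⟨[-2, 1, 0, 1], 39062, 3, 0, 2, 0, [2, 4, 3]⟩,
  ⟨[0, -1, 1, 1], 39288, 4, 0, 3, 1, [4, 3, 5]⟩,
  ⟨[0, 0, -1, 2], 42888, 5, 0, 4, 2, [5, 5, 4]⟩]

/-- orbit table, step 1 -/
def ch1 : List Node := [
  ⟨[0, 1, 0, 0], 34968, 0, 0, 0, 0, [0, 1]⟩,
  ⟨[2, -1, 1, 0], 35194, 1, 0, 0, 1, [2, 0]⟩,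
  ⟨[-2, 1, 1, 0], 35222, 2, 0, 1, 0, [1, 3]⟩,
  ⟨[0, -1, 2, 0], 35448, 3, 0, 2, 1, [3, 2]⟩]

/-- orbit table, step 0 -/
def ch0 : List Node := [
  ⟨[1, 0, 0, 0], 34953, 0, 0, 0, 0, [1]⟩,
  ⟨[-1, 1, 0, 0], 34967, 1, 0, 0, 0, [0]⟩]

/-- the chain -/
def chain : List (List Node) := [ch3, ch2, ch1, ch0]

theorem okR : tab.okR = true := by decide +kernel

theorem okP : tab.okP = true := by decide +kernel

theorem okS : tab.okS = true := by decide +kernel

theorem okN : tab.okN = true := by decide +kernel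

theorem okA : tab.okA = true := by decide +kernel

theorem okI : tab.okI = true := by decide +kernel

theorem ok : tab.Ok := tab.ok_of okR okP okS okN okA okI

theorem chOK : chainOK 4 [] tab.A 4 chain = true := by decide +kernel

theorem poly_eq : poly chain = pprod ([2, 4, 6, 8].map fun d => List.replicate d 1) := by decide +kernel

theorem pe_one : pe 1 (poly chain) = 384 := by decide +kernel

end Cfsg.Agent.H557.TabB4
end

-- part: H557/TabC3A1
section
/-!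
helper557: tables of the subsystem `C3 + A1 of F4`.
Generated by a script; checked by the kernel.
-/

set_option autoImplicit false

namespace Cfsg.Agent.H557.TabC3A1

open Cfsg.Agent.ChevalleyStructure.WeylStep Cfsg.Agent.H557.SubTab Cfsg.Agent.H557.SumHom

/-- indices of the roots -/
def tE : List ℕ := [25, 27, 28, 30, 33, 34, 35, 37, 41, 47, 22, 20, 19, 17, 14, 13, 12, 10, 6, 0]

/-- codes of the root vectors -/
def tV : List ℕ := [35208, 34968, 35224, 35240, 34953, 34969, 35225, 35241, 35242, 43978, 34696, 34936, 34680, 34664,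
  34951, 34935, 34679, 34663, 34662, 25926]

/-- reflection 0 -/
def tr0 : List ℕ := [10, 2, 1, 3, 4, 6, 5, 7, 8, 9, 0, 12, 11, 13, 14, 16, 15, 17, 18, 19]

/-- reflection 1 -/
def tr1 : List ℕ := [3, 11, 2, 0, 5, 4, 7, 6, 8, 9, 13, 1, 12, 10, 15, 14, 17, 16, 18, 19]

/-- reflection 2 -/
def tr2 : List ℕ := [0, 5, 6, 8, 14, 1, 2, 7, 3, 9, 10, 15, 16, 18, 4, 11, 12, 17, 13, 19]

/-- reflection 3 -/
def tr3 : List ℕ := [0, 1, 2, 3, 4, 5, 6, 7, 8, 19, 10, 11, 12, 13, 14, 15, 16, 17, 18, 9]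

/-- codes of the coroots -/
def tcd : List ℕ := [34953, 34968, 34970, 34969, 35208, 35224, 35226, 35242, 35225, 39048, 34951, 34936, 34934, 34935,
  34696, 34680, 34678, 34662, 34679, 30856]

/-- the tables -/
def tab : Tab 4 where
  m := 10
  E := tE
  V := tV
  sm := [0, 1, 4, 9]
  rf := [tr0, tr1, tr2, tr3]
  cd := tcd
  A := [[2, -2, 0, 0], [-1, 2, -1, 0], [0, -1, 2, 0], [0, 0, 0, 2]]
  wd := [[2], [1], [0], [3, 2, 1, 0, 2, 1, 2, 3, 2, 1, 2, 0, 1, 2, 3]]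

/-- orbit table, step 3 -/
def ch3 : List Node := [
  ⟨[0, 0, 0, 1], 39048, 0, 0, 0, 0, [0, 0, 0, 1]⟩,
  ⟨[0, 0, 0, -1], 30856, 1, 0, 0, 3, [1, 1, 1, 0]⟩]

/-- orbit table, step 2 -/
def ch2 : List Node := [
  ⟨[0, 0, 1, 0], 35208, 0, 0, 0, 0, [0, 0, 1]⟩,
  ⟨[0, 1, -1, 0], 34712, 1, 0, 0, 2, [1, 2, 0]⟩,
  ⟨[1, -1, 0, 0], 34937, 2, 0, 1, 1, [3, 1, 2]⟩,
  ⟨[-1, 1, 0, 0], 34967, 3, 0, 2, 0, [2, 4, 3]⟩,
  ⟨[0, -1, 1, 0], 35192, 4, 0, 3, 1, [4, 3, 5]⟩,
  ⟨[0, 0, -1, 0], 34696, 5, 0, 4, 2, [5, 5, 4]⟩]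

/-- orbit table, step 1 -/
def ch1 : List Node := [
  ⟨[0, 1, 0, 0], 34968, 0, 0, 0, 0, [0, 1]⟩,
  ⟨[1, -1, 1, 0], 35193, 1, 0, 0, 1, [2, 0]⟩,
  ⟨[-1, 1, 1, 0], 35223, 2, 0, 1, 0, [1, 3]⟩,
  ⟨[0, -1, 2, 0], 35448, 3, 0, 2, 1, [3, 2]⟩]

/-- orbit table, step 0 -/
def ch0 : List Node := [
  ⟨[1, 0, 0, 0], 34953, 0, 0, 0, 0, [1]⟩,
  ⟨[-1, 2, 0, 0], 34983, 1, 0, 0, 0, [0]⟩]

/-- the chain -/
def chain : List (List Node) := [ch3, ch2, ch1, ch0]

theorem okR : tab.okR = true := by decide +kernel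

theorem okP : tab.okP = true := by decide +kernel

theorem okS : tab.okS = true := by decide +kernel

theorem okN : tab.okN = true := by decide +kernel

theorem okA : tab.okA = true := by decide +kernel

theorem okI : tab.okI = true := by decide +kernel

theorem ok : tab.Ok := tab.ok_of okR okP okS okN okA okI

theorem chOK : chainOK 4 [] tab.A 4 chain = true := by decide +kernel

theorem poly_eq : poly chain = pprod ([2, 4, 6, 2].map fun d => List.replicate d 1) := by decide +kernel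

theorem pe_one : pe 1 (poly chain) = 96 := by decide +kernel

end Cfsg.Agent.H557.TabC3A1
end

-- part: H557/LinkF4
section
/-!
helper557: the tables of the subsystems of `chevF4` describe subsystems of its root system.
-/

set_option autoImplicit false

namespace Cfsg.Agent.H557.LinkF4

open Cfsg.Lie Cfsg.Agent.ChevalleyStructure Cfsg.Agent.ChevalleyStructure.RootVec  Cfsg.Agent.ChevalleyStructure.CoxeterGeomTypes
  Cfsg.Agent.Nodes.RGDChev Cfsg.Agent.H557.SubTab Cfsg.Agent.H557.SubLink Cfsg.Agent.ChevalleyStructure.CoxeterWordCheck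

/-- the Cartan matrix -/
def rw : List (List ℤ) :=
  [[2, -1, 0, 0], [-1, 2, -2, 0], [0, -1, 2, -1], [0, 0, -1, 2]]

set_option backward.isDefEq.respectTransparency false in
theorem hrw : rows (cartanOf chevF4 4) = rw := by decide +kernel

/-! ### `TabB4` -/

theorem V_TabB4 : okV TabB4.tab rw = true := by decide +kernel

theorem E_TabB4 : okE TabB4.tab chevF4 0 = true := by decide +kernel

theorem F_TabB4 : okF TabB4.tab chevF4 0 = true := by decide +kernel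

theorem H_TabB4 : okH TabB4.tab = true := by decide +kernel

theorem Q_TabB4 : okQ TabB4.tab = true := by decide +kernel

theorem B_TabB4 : ∃ r < TabB4.tab.N, vf TabB4.tab r 0 ≠ 0 := ⟨9, by decide +kernel, by decide +kernel⟩

/-! ### `TabC3A1` -/

theorem V_TabC3A1 : okV TabC3A1.tab rw = true := by decide +kernel

theorem E_TabC3A1 : okE TabC3A1.tab chevF4 3 = true := by decide +kernel

theorem F_TabC3A1 : okF TabC3A1.tab chevF4 3 = true := by decide +kernel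

theorem H_TabC3A1 : okH TabC3A1.tab = true := by decide +kernel

theorem Q_TabC3A1 : okQ TabC3A1.tab = true := by decide +kernel

theorem B_TabC3A1 : ∃ r < TabC3A1.tab.N, vf TabC3A1.tab r 3 ≠ 0 := ⟨9, by decide +kernel, by decide +kernel⟩

end Cfsg.Agent.H557.LinkF4
end

-- part: H557/OrbF4
section
/-!
helper557: the orbits of the Weyl group on the involutions of the torus of `chevF4`.
-/

set_option autoImplicit false

namespace Cfsg.Agent.H557.OrbF4

open Cfsg.Lie Cfsg.Agent.ChevalleyStructure Cfsg.Agent.ChevalleyStructure.CoxeterGeomTypes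
  Cfsg.Agent.H557.SubTab Cfsg.Agent.H557.SignTorus

/-- column masks of the Cartan matrix modulo `2` -/
def cm : List ℕ := [2, 5, 8, 4]

set_option backward.isDefEq.respectTransparency false in
theorem hcm : OkC (cartanOf chevF4 4) cm := by unfold OkC; decide +kernel

/-! ### `TabB4` -/

/-- the representative -/
def n_TabB4 : ℕ := 2

/-- the orbit -/
def O_TabB4 : ℕ := 14

/-- the orbit list -/ def L_TabB4 : List (ℕ × ℕ) := [(3, 0), (1, 1)]

theorem nO_TabB4 : (O_TabB4).testBit n_TabB4 = true := by decide +kernel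

theorem okO_TabB4 : okOrb 4 cm O_TabB4 (2 ^ n_TabB4) L_TabB4 = true := by decide +kernel

theorem okC_TabB4 : okCl 4 cm O_TabB4 = true := by decide +kernel

theorem len_TabB4 : ((List.range (2 ^ 4)).filter fun n => (O_TabB4).testBit n).length = 3 := by decide +kernel

theorem n0_TabB4 : ∀ j : Fin 4, par 4 (n_TabB4 &&& cm.getD j 0) = decide (j = 0) := by decide +kernel

theorem wd_TabB4 : ∀ i : Fin 4, ((TabB4.tab.w i).foldr (fun j m => step 4 cm j m) n_TabB4) = n_TabB4 := by decide +kernel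

/-! ### `TabC3A1` -/

/-- the representative -/
def n_TabC3A1 : ℕ := 5

/-- the orbit -/
def O_TabC3A1 : ℕ := 65520

/-- the orbit list -/ def L_TabC3A1 : List (ℕ × ℕ) := [(13, 3), (9, 2), (11, 1), (10, 0), (15, 2), (14, 2), (7, 3),
  (12, 1), (6, 3), (8, 2), (4, 3)]

theorem nO_TabC3A1 : (O_TabC3A1).testBit n_TabC3A1 = true := by decide +kernel

theorem okO_TabC3A1 : okOrb 4 cm O_TabC3A1 (2 ^ n_TabC3A1) L_TabC3A1 = true := by decide +kernel

theorem okC_TabC3A1 : okCl 4 cm O_TabC3A1 = true := by decide +kernel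

theorem len_TabC3A1 : ((List.range (2 ^ 4)).filter fun n => (O_TabC3A1).testBit n).length = 12 := by decide +kernel

theorem n0_TabC3A1 : ∀ j : Fin 4, par 4 (n_TabC3A1 &&& cm.getD j 0) = decide (j = 3) := by decide +kernel

theorem wd_TabC3A1 : ∀ i : Fin 4, ((TabC3A1.tab.w i).foldr (fun j m => step 4 cm j m) n_TabC3A1) = n_TabC3A1 := by decide +kernel

theorem cover : ∀ n < 2 ^ 4, n = 0 ∨ (O_TabB4).testBit n = true ∨ (O_TabC3A1).testBit n = true := by decide +kernel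

end Cfsg.Agent.H557.OrbF4
end

-- part: H557/InvF4
section
/-!
helper557: the classes of involutions of `chevF4` over finite fields of odd order.
-/

set_option autoImplicit false

namespace Cfsg.Agent.H557.InvF4

open Cfsg.Lie Cfsg.Agent.ChevalleyStructure Cfsg.Agent.ChevalleyStructure.CoxeterGeomTypes
  Cfsg.Agent.Nodes.RGDChev Cfsg.Agent.KFacts.RgdChevCoord Cfsg.Agent.OddHalf.NI.ModelChev
  Cfsg.Agent.H557.SubTab Cfsg.Agent.H557.SubLink Cfsg.Agent.H557.SignTorus Cfsg.Agent.H557.InvClass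
  Cfsg.Agent.H557.ToralTypes Cfsg.Agent.H557.LinkF4 Cfsg.Agent.H557.OrbF4

universe u

/-- the Coxeter system -/
def cs : CoxeterSystem CoxeterMatrix.F₄ (CoxeterMatrix.F₄).Group := CoxeterMatrix.toCoxeterSystem _

theorem cardW : Nat.card (CoxeterMatrix.F₄).Group = 1152 :=
  Cfsg.Agent.S1092.result (⟨4, CoxeterMatrix.F₄⟩, 1152) (by simp)

/-- the class of `TabB4` -/
def D_TabB4 : ClassData Nodes.KindF.isType cs cm TabB4.tab [2, 4, 6, 8] n_TabB4 O_TabB4 where
  i₀ := 0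
  L := lnk_of Nodes.KindF.isType cs hrw V_TabB4 E_TabB4 F_TabB4 H_TabB4 Q_TabB4
  ok := TabB4.ok
  beta := B_TabB4
  Ls := TabB4.chain
  ch := TabB4.chOK
  po := TabB4.poly_eq
  len := rfl
  pos := by simp
  n_lt := by decide +kernel
  n_ne := by decide +kernel
  nO := nO_TabB4
  Lo := L_TabB4
  okO := okO_TabB4
  okC := okC_TabB4
  c := 3
  lc := len_TabB4
  n0 := n0_TabB4
  wd := wd_TabB4
  c0 := by norm_num
  cW := by rw [TabB4.pe_one, cardW]

/-- the class of `TabC3A1` -/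
def D_TabC3A1 : ClassData Nodes.KindF.isType cs cm TabC3A1.tab [2, 4, 6, 2] n_TabC3A1 O_TabC3A1 where
  i₀ := 3
  L := lnk_of Nodes.KindF.isType cs hrw V_TabC3A1 E_TabC3A1 F_TabC3A1 H_TabC3A1 Q_TabC3A1
  ok := TabC3A1.ok
  beta := B_TabC3A1
  Ls := TabC3A1.chain
  ch := TabC3A1.chOK
  po := TabC3A1.poly_eq
  len := rfl
  pos := by simp
  n_lt := by decide +kernel
  n_ne := by decide +kernel
  nO := nO_TabC3A1
  Lo := L_TabC3A1
  okO := okO_TabC3A1
  okC := okC_TabC3A1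
  c := 12
  lc := len_TabC3A1
  n0 := n0_TabC3A1
  wd := wd_TabC3A1
  c0 := by norm_num
  cW := by rw [TabC3A1.pe_one, cardW]

/-- **the classes of involutions** -/
theorem main {K : Type u} [Field K] [Fintype K] (ho : Odd (Fintype.card K)) :
    ∃ s t : ↥(chevF4.group K), orderOf s = 2 ∧ orderOf t = 2 ∧ ¬ IsConj s t ∧
      (∀ u : ↥(chevF4.group K), orderOf u = 2 → IsConj u s ∨ IsConj u t) ∧
      Nat.card (Subgroup.centralizer ({s} : Set ↥(chevF4.group K))) =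
        Fintype.card K ^ TabB4.tab.m * (([2, 4, 6, 8] : List ℕ).map fun d => Fintype.card K ^ d - 1).prod ∧
      Nat.card (Subgroup.centralizer ({t} : Set ↥(chevF4.group K))) =
        Fintype.card K ^ TabC3A1.tab.m * (([2, 4, 6, 2] : List ℕ).map fun d => Fintype.card K ^ d - 1).prod := by
  obtain ⟨p, hpp, hpc, hp2⟩ := exists_char K ho
  have : Fact p.Prime := ⟨hpp⟩
  have h2 : (2 : K) ≠ 0 := by
    intro h
    have h3 : p ∣ 2 := (CharP.cast_eq_zero_iff K p 2).1 (by exact_mod_cast h)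
    have h4 := (Nat.prime_dvd_prime_iff_eq hpp Nat.prime_two).1 h3
    rw [h4] at hp2
    exact absurd hp2 (by decide)
  have hW : Finite (CoxeterMatrix.F₄).Group := Nat.finite_of_card_ne_zero (by rw [cardW]; norm_num)
  have hc1 : Nat.card (chevF4.diagonalSubgroup K) = (Nat.card K - 1) ^ 4 := by
    have := Cfsg.Agent.S1035.result (F := K) rfl (chevF4, 1) (by simp)
    rw [Nat.card_eq_fintype_card (α := K)]
    rwa [one_mul] at this
  have hT : Nat.card ↥(TT chevF4 K) = (Nat.card K - 1) ^ 4 := by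
    rw [← hc1]
    exact Nat.card_congr (Subgroup.subgroupOfEquivOfLe
      (Cfsg.Agent.ChevalleyStructure.Elts.diagonal_le_group (Nodes.KindF.isType).inList K)).toEquiv
  rw [← Nat.card_eq_fintype_card]
  exact two_classes hcm p h2 inj_F4 (fun t ht => surj_F4 ht) (fun t ht => toral_F4 ho ht) hT D_TabB4 D_TabC3A1
    cover (by decide +kernel)

end Cfsg.Agent.H557.InvF4
end
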