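import Cfsg.Agent.H557.LrData
import Cfsg.Agent.H286.OddNF
import Cfsg.Agent.Nodes.NormX
import Cfsg.Agent.KFacts.RgdRigid
import Cfsg.Agent.KFacts.RgdCent
import Cfsg.Agent.FastGrp
import Cfsg.Agent.Prune
set_option linter.all false
prune_inst 0x7f00000000000000000000000000000000000000000000000000000000000000000000000000000000000000000000000000000000000000000000000000000000000000000000000000000000000000003fffffffffffffffffffffffffffbeffbdffffffff
open scoped Cfsg.Agent.FastGrp

/-!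
helper557: involutions of a simple group with a root group datum of odd characteristic, from the normal form of
`H286.OddNF`.

* `exists_nf_inner` : an involution is conjugate to `t` with the conjugation by `t` in normal form;
* `mem_T_of` : elements normalising all root groups are in the torus;
* `SgnEl.mul`, `eq_one_of_simple`.
-/

set_option autoImplicit false
set_option linter.unusedSectionVars false

namespace Cfsg.Agent.H557.LrNF

open CoxeterSystem Cfsg.Agent.ChevalleyStructure.CoxeterGeom Cfsg.Agent.Tits.Roots Cfsg.Agent.Tits.Core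
  Cfsg.Agent.Tits.RootComb Cfsg.Agent.Tits.Exchange Cfsg.Agent.Nodes.Reps Cfsg.Agent.Nodes.BNOf
  Cfsg.Agent.Nodes.StabComb Cfsg.Agent.Nodes.Bruhat Cfsg.Agent.Nodes.OppDec Cfsg.Agent.Nodes.LeviDec
  Cfsg.Agent.Nodes.RGDLib Cfsg.Agent.Nodes.NormX Cfsg.Agent.UGT.U2.FOne
  Cfsg.Agent.H557.LrSgn Cfsg.Agent.H557.LrTor Cfsg.Agent.H557.LrOrb Cfsg.Agent.H557.LrIso

variable {I W Y : Type*} [Fintype I] [DecidableEq I] [Group W] [Group Y] {M : CoxeterMatrix I}
  {cs : CoxeterSystem M W} {A : I → I → ℤ} {h : IsCartan M A} {p : ℕ} {T : Subgroup Y} {n : I → Y}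
  {X : (I → ℤ) → Subgroup Y}

section

variable (R : RGD cs h p T n X)

include R

/-- `N(U) = B` (after `Cfsg.Agent.AschComp.Exc`) -/
theorem mem_B_of_mem_normalizer_U [Finite W] (hG : GG cs h T X = ⊤) {g : Y}
    (hg : g ∈ Subgroup.normalizer (RGD.Sup X (RGD.Pos cs h) : Set Y)) : g ∈ RGD.B cs h T X := by
  obtain ⟨w, b₁, hb₁, k, hk, b₂, hb₂, rfl⟩ := (mem_GG R).1 (show g ∈ GG cs h T X by rw [hG]; trivial)
  have hkN : k ∈ Subgroup.normalizer (RGD.Sup X (RGD.Pos cs h) : Set Y) := by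
    have h1 := R.B_le_normalizer_U hb₁
    have h2 := R.B_le_normalizer_U hb₂
    have h3 := mul_mem (mul_mem (inv_mem h1) hg) (inv_mem h2)
    have h4 : b₁⁻¹ * (b₁ * k * b₂) * b₂⁻¹ = k := by group
    rwa [h4] at h3
  have hw : w = 1 := by
    apply eq_one_of_nonneg cs h
    intro i
    have h1 := (isRoot_sr cs h i).act w
    rcases h1.pos_or_neg with h2 | h2
    · exact h2
    · exfalso
      apply X_ne_bot R h1
      rw [Subgroup.eq_bot_iff_forall]
      intro x hx
      refine eq_one_of_mem_U_of_mem_BN R ?_ (X_le_BN h1 h2 hx)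
      rw [← R.conj_rp hk (isRoot_sr cs h i), mem_cj] at hx
      rw [← mem_normalizer_iff_cj.1 hkN, mem_cj]
      exact RGD.le_Sup (S := RGD.Pos cs h) ⟨isRoot_sr cs h i, sr_nonneg i⟩ hx
  subst hw
  exact mul_mem (mul_mem hb₁ (RGD.T_le_B hk.mem_of_one)) hb₂

/-- `N(U⁻) = B⁻` -/
theorem mem_BN_of_mem_normalizer_UN [Finite W] (hG : GG cs h T X = ⊤) {g : Y}
    (hg : g ∈ Subgroup.normalizer (UN cs h X : Set Y)) : g ∈ BN cs h T X := by
  obtain ⟨k, hk⟩ := exists_rp cs R.nsys (w0 cs)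
  rw [← cj_U R hk, normalizer_cj, mem_cj] at hg
  have h1 := mem_B_of_mem_normalizer_U R hG hg
  rwa [← mem_cj, cj_B R hk] at h1

/-- elements normalising all root groups are in the torus -/
theorem mem_T_of [Finite W] (hG : GG cs h T X = ⊤) {t : Y} (ht : ∀ c, IsRoot cs h c → cj t (X c) = X c) : t ∈ T := by
  rw [← B_inf_BN R]
  constructor
  · refine mem_B_of_mem_normalizer_U R hG (mem_normalizer_iff_cj.2 ?_)
    rw [RGD.cj_Sup]
    refine iSup_congr fun c => ?_
    exact ht c.1 c.2.1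
  · refine mem_BN_of_mem_normalizer_UN R hG (mem_normalizer_iff_cj.2 ?_)
    unfold UN
    rw [RGD.cj_Sup]
    refine iSup_congr fun c => ?_
    exact ht c.1 c.2.1

/-- elements inducing a symmetry of the simple roots on the root groups are in the torus -/
theorem mem_T_of_graph [Finite W] (hG : GG cs h T X = ⊤) {t : Y} {σ : I → I} (hσσ : ∀ i, σ (σ i) = i)
    (hroot : ∀ c, IsRoot cs h c → IsRoot cs h (c ∘ σ)) (ht : ∀ c, IsRoot cs h c → cj t (X c) = X (c ∘ σ)) :
    t ∈ T := by
  have hcc : ∀ c : I → ℤ, (c ∘ σ) ∘ σ = c := fun c => by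
    funext i
    rw [Function.comp_apply, Function.comp_apply, hσσ]
  rw [← B_inf_BN R]
  constructor
  · refine mem_B_of_mem_normalizer_U R hG (mem_normalizer_iff_cj.2 ?_)
    rw [RGD.cj_Sup]
    apply le_antisymm
    · refine iSup_le fun c => ?_
      rw [ht _ c.2.1]
      exact RGD.le_Sup (S := RGD.Pos cs h) ⟨hroot _ c.2.1, fun i => c.2.2 (σ i)⟩
    · refine RGD.Sup_le fun c hc => ?_
      have h3 := ht _ (hroot _ hc.1)
      rw [hcc] at h3
      rw [← h3]
      exact le_iSup (fun c : RGD.Pos cs h => cj t (X c.1)) ⟨c ∘ σ, hroot _ hc.1, fun i => hc.2 (σ i)⟩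
  · refine mem_BN_of_mem_normalizer_UN R hG (mem_normalizer_iff_cj.2 ?_)
    unfold UN
    rw [RGD.cj_Sup]
    apply le_antisymm
    · refine iSup_le fun c => ?_
      rw [ht _ c.2.1]
      exact RGD.le_Sup (S := Neg cs h) ⟨hroot _ c.2.1, fun i => c.2.2 (σ i)⟩
    · refine RGD.Sup_le fun c hc => ?_
      have h3 := ht _ (hroot _ hc.1)
      rw [hcc] at h3
      rw [← h3]
      exact le_iSup (fun c : Neg cs h => cj t (X c.1)) ⟨c ∘ σ, hroot _ hc.1, fun i => hc.2 (σ i)⟩

/-- an element inducing a symmetry of the simple roots on the root groups induces the identity -/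
theorem graph_trivial [Finite W] (hG : GG cs h T X = ⊤) {t : Y} {σ : I → I} (hσσ : ∀ i, σ (σ i) = i)
    (hroot : ∀ c, IsRoot cs h c → IsRoot cs h (c ∘ σ)) (ht : ∀ c, IsRoot cs h c → cj t (X c) = X (c ∘ σ)) (i : I) :
    σ i = i := by
  have hT := mem_T_of_graph R hG hσσ hroot ht
  have h4 := ht _ (isRoot_sr cs h i)
  rw [R.tor _ (isRoot_sr cs h i) _ hT] at h4
  have h5 := X_injective R (isRoot_sr cs h i) (hroot _ (isRoot_sr cs h i)) h4
  have h6 := congrFun h5 i
  rw [Function.comp_apply, sr_self] at h6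
  by_contra hne
  rw [sr_ne hne] at h6
  exact absurd h6 (by decide)

/-- an element of the torus centralizing the root groups of the fundamental roots is trivial -/
theorem eq_one_of_simple [Finite W] (hG1 : RGD.Sup X {x | IsRoot cs h x} = ⊤)
    (hZ : Subgroup.center Y = ⊥) {t : Y} (ht : t ∈ T) (hc : ∀ i, ∀ u ∈ X (sr i), t * u = u * t) : t = 1 := by
  rw [← Subgroup.mem_bot, ← hZ, Subgroup.mem_center_iff]
  have h1 : RGD.Sup X {x | IsRoot cs h x} ≤ Subgroup.centralizer {t} := by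
    refine Cfsg.Agent.KFacts.RgdRigid.Sup_le_of_simple R (fun i u hu => ?_) (fun i u hu => ?_)
    · rw [Subgroup.mem_centralizer_singleton_iff]
      exact (hc i u hu).symm
    · rw [Subgroup.mem_centralizer_singleton_iff]
      exact ((Cfsg.Agent.KFacts.RgdCent.cen_neg R ht (b := sr i) ⟨isRoot_sr cs h i, hc i⟩).2 u hu).symm
  rw [hG1] at h1
  intro g
  exact Subgroup.mem_centralizer_singleton_iff.1 (h1 (Subgroup.mem_top g))

end

/-- the product of sign elements -/
theorem SgnEl.mul {φ ψ : (I → ℤ) →+ ZMod 2} {z z' : Y} (hz : SgnEl cs h T X φ z) (hz' : SgnEl cs h T X ψ z') :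
    SgnEl cs h T X (φ + ψ) (z * z') where
  mem := mul_mem hz.mem hz'.mem
  fix a ha h0 u hu := by
    rw [AddMonoidHom.add_apply] at h0
    by_cases h1 : φ a = 0
    · rw [h1, zero_add] at h0
      rw [mul_assoc, hz'.fix a ha h0 u hu, ← mul_assoc, hz.fix a ha h1 u hu, mul_assoc]
    · have h2 : ψ a ≠ 0 := by
        intro h2
        rw [h2, add_zero] at h0
        exact h1 h0
      have e1 := hz'.inv a ha h2 u hu
      have hu' : u⁻¹ ∈ X a := inv_mem hu
      have e2 := hz.inv a ha h1 _ hu'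
      rw [inv_inv] at e2
      calc z * z' * u = z * (z' * u * z'⁻¹) * z' := by group
        _ = (z * u⁻¹ * z⁻¹) * z * z' := by rw [e1]; group
        _ = u * (z * z') := by rw [e2]; group
  inv a ha h0 u hu := by
    rw [AddMonoidHom.add_apply] at h0
    by_cases h1 : φ a = 0
    · rw [h1, zero_add] at h0
      have e1 := hz'.inv a ha h0 u hu
      have e2 := hz.fix a ha h1 _ (inv_mem hu)
      calc z * z' * u * (z * z')⁻¹ = z * (z' * u * z'⁻¹) * z⁻¹ := by group
        _ = u⁻¹ := by rw [e1, e2]; group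
    · have h2 : ψ a = 0 := by
        by_contra h2
        rw [zmod2_cases _ h1, zmod2_cases _ h2] at h0
        exact h0 rfl
      have e1 := hz'.fix a ha h2 u hu
      have e2 := hz.inv a ha h1 u hu
      calc z * z' * u * (z * z')⁻¹ = z * (z' * u) * z'⁻¹ * z⁻¹ := by group
        _ = z * u * z⁻¹ := by rw [e1]; group
        _ = u⁻¹ := e2

/-- the trivial sign element -/
theorem SgnEl.one : SgnEl cs h T X 0 1 where
  mem := one_mem _
  fix a _ _ u _ := by rw [one_mul, mul_one]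
  inv a _ h2 := absurd rfl h2

/-- **Involutions in normal form.** -/
theorem exists_nf_inner [hs : IsSimpleGroup Y] [Finite Y] [Finite W] {p : ℕ} [hp : Fact p.Prime] (hp2 : p ≠ 2)
    (R : RGD cs h p T n X) (hG : G1 cs h X = ⊤) (hZ : Subgroup.center Y = ⊥) {t : Y} (htt : t * t = 1) (ht1 : t ≠ 1) :
    ∃ (k : Y) (φ : W ≃* W) (σ : I → I) (J : Set I) (g : Y),
      NF cs h p T n X (MulAut.conj (k⁻¹ * t * k)) 1 φ σ J g := by
  obtain ⟨k, x', φ, σ, J, g, hx, N⟩ := H286.OddNF.exists_nf hp2 R hG (MulAut.conj t) (fun y => by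
    show t * (t * y * t⁻¹) * t⁻¹ = y
    have : t * (t * y * t⁻¹) * t⁻¹ = (t * t) * y * (t * t)⁻¹ := by group
    rw [this, htt, one_mul, inv_one, mul_one]) (by
    intro hx1
    apply ht1
    rw [← Subgroup.mem_bot, ← hZ, Subgroup.mem_center_iff]
    intro y
    have h1 : t * y * t⁻¹ = y := by
      have := DFunLike.congr_fun hx1 y
      exact this
    exact (mul_inv_eq_iff_eq_mul.1 h1).symm)
  refine ⟨k, φ, σ, J, g, ?_⟩
  have h1 : MulAut.conj (k⁻¹ * t * k) = x' := by
    ext y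
    have h2 := DFunLike.congr_fun hx (k * y * k⁻¹)
    have h3 : k * x' (k⁻¹ * (k * y * k⁻¹) * k) * k⁻¹ = t * (k * y * k⁻¹) * t⁻¹ := h2
    have h4 : k⁻¹ * (k * y * k⁻¹) * k = y := by group
    rw [h4] at h3
    show k⁻¹ * t * k * y * (k⁻¹ * t * k)⁻¹ = x' y
    calc k⁻¹ * t * k * y * (k⁻¹ * t * k)⁻¹ = k⁻¹ * (t * (k * y * k⁻¹) * t⁻¹) * k := by group
      _ = x' y := by rw [← h3]; group
  rw [h1]
  exact N

end Cfsg.Agent.H557.LrNF
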