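import Cfsg.Agent.H557.Toral
set_option linter.all false

/-!
helper557: the involutions of the Chevalley groups of types `G2`, `F4`, `E8` over finite fields of odd order are
conjugate into the torus: `toral`.
-/

set_option autoImplicit false
set_option linter.unusedSectionVars false

namespace Cfsg.Agent.H557.Toral

open CoxeterSystem Cfsg.Agent.ChevalleyStructure.CoxeterGeom Cfsg.Agent.Tits.Roots Cfsg.Agent.Tits.Core
  Cfsg.Agent.Tits.RootComb Cfsg.Agent.Nodes.Comb Cfsg.Agent.Nodes.Reps Cfsg.Agent.Nodes.BNOf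
  Cfsg.Agent.Nodes.RGDLib Cfsg.Agent.Nodes.Bruhat
open Cfsg.Lie Cfsg.Agent.ChevalleyStructure Cfsg.Agent.ChevalleyStructure.Elts
  Cfsg.Agent.ChevalleyStructure.NPerm Cfsg.Agent.ChevalleyStructure.CoxeterGeomTypes Cfsg.Agent.Nodes.RGDChev
  Cfsg.Agent.KFacts.RgdField Cfsg.Agent.KFacts.RgdChevCoord Cfsg.Agent.OddHalf.NI.ModelChev
  Cfsg.Agent.H557.SLTwist Cfsg.Agent.H557.InvForm
open Cfsg.Agent.FixBN.FieldRGD (uu vv dd ww)
open scoped MatrixGroups

universe u

section Main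

variable {D : ChevalleyDatum} {l : ℕ} {M : CoxeterMatrix (Fin l)} (hp : IsType D l M) {K : Type u} [Field K]
  [Finite K] (p : ℕ) [Fact p.Prime] [CharP K p] {W : Type*} [Group W] (cs : CoxeterSystem M W)

theorem xc_neg_sr_inj (i : Fin l) : Function.Injective (xc (K := K) hp (-sr i)) := by
  have hs := simple_lt hp.inList (lt_rank hp i)
  rw [← vec_simple hp i, ← vec_neg hp hs]
  exact xc_inj hp (neg_lt hp.inList hs)

theorem exists_theta {w : W} {k : ↥(D.group K)} (hk : Rp cs (rgd (K := K) hp cs p).nsys w k) (hkk : k * k = 1)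
    {i : Fin l} (hi : rep cs hp.isCartan w (sr i) = -sr i) :
    ∃ c : K, ∃ hc : c ≠ 0, (∀ a, k * xc hp (sr i) a * k⁻¹ = xc hp (-sr i) (c * a)) ∧
      ∀ g, k * sl hp i g * k⁻¹ = sl hp i (theta c hc g) := by
  obtain ⟨c, hc, e⟩ := rp_act (coords hp cs p) (rgd (K := K) hp cs p).nsys hk (isRoot_sr cs hp.isCartan i)
  obtain ⟨c', hc', e'⟩ := rp_act (coords hp cs p) (rgd (K := K) hp cs p).nsys hk (isRoot_sr cs hp.isCartan i).neg
  rw [hi] at e
  rw [map_neg, hi, neg_neg] at e'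
  have hcc : c' * c = 1 := by
    have h1 := e' (c * 1)
    rw [← e 1] at h1
    have h2 : k * (k * xc hp (sr i) 1 * k⁻¹) * k⁻¹ = k * k * xc hp (sr i) 1 * (k * k)⁻¹ := by group
    rw [h2, hkk, one_mul, inv_one, mul_one] at h1
    have h3 := xc_sr_inj hp i h1
    rw [mul_one] at h3
    exact h3.symm
  refine ⟨c, hc, e, conj_eq _ k hc (fun a => ?_) (fun b => ?_)⟩
  · rw [sl_uu, sl_vv, e]
  · rw [sl_uu, sl_vv, e']
    congr 1
    rw [eq_div_iff hc, mul_assoc, mul_comm b, ← mul_assoc, hcc, one_mul]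

theorem rp_dd {w : W} {k : ↥(D.group K)} (hk : Rp cs (rgd (K := K) hp cs p).nsys w k) (i : Fin l) (d : K) (hd : d ≠ 0) :
    Rp cs (rgd (K := K) hp cs p).nsys w (sl hp i (dd d hd) * k) := by
  have h1 : sl hp i (dd d hd) ∈ TT D K := by rw [sl_dd]; exact hc_mem hp i hd
  have := (rp_of_mem (cs := cs) (hN := (rgd (K := K) hp cs p).nsys) h1).mul hk
  rwa [one_mul] at this

theorem shorter (hp2 : Odd p) [Finite W] {w : W} {k : ↥(D.group K)} (hk : Rp cs (rgd (K := K) hp cs p).nsys w k)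
    (hkk : k * k = 1) {i : Fin l} (hi : rep cs hp.isCartan w (sr i) = -sr i) {y : K} (hy0 : y ≠ 0)
    (e : ∀ a, k * xc hp (sr i) a * k⁻¹ = xc hp (-sr i) (y ^ 2 * a)) :
    ∃ g k', Rp cs (rgd (K := K) hp cs p).nsys (cs.simple i * w) k' ∧ k' * k' = 1 ∧ g * k * g⁻¹ = k' := by
  have R := rgd (K := K) hp cs p
  obtain ⟨c, hc, e1, hθ⟩ := exists_theta hp p cs hk hkk hi
  have hcy : c = y ^ 2 := by
    have h1 := e 1
    rw [e1 1] at h1
    have h2 := xc_neg_sr_inj hp i h1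
    rwa [mul_one, mul_one] at h2
  have h1 := square_case (sl hp i) k hc hθ hcy hy0
  have hcell : Cell R.nsys cs hp.isCartan (XX D l K) (cs.simple i * w)
      (sl hp i (vv y) * k * (sl hp i (vv y))⁻¹) := by
    rw [h1]
    refine ⟨sl hp i (uu y⁻¹), ?_, sl hp i (ww (-y⁻¹) (neg_ne_zero.2 (inv_ne_zero hy0))) * k, ?_, 1, one_mem _, by group⟩
    · have h2 : sl hp i (uu y⁻¹) ∈ (XX D l K (sr i) : Set ↥(D.group K)) := by
        rw [coe_X hp i]; exact ⟨y⁻¹, rfl⟩
      exact RGD.X_le_B (isRoot_sr cs hp.isCartan i) (sr_nonneg i) h2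
    · rw [ww_eq_dd, map_mul, sl_ww, mul_assoc]
      exact rp_dd hp p cs ((rp_simple cs R.nsys i).mul hk) i _ _
  obtain ⟨g, k', hk', hkk', hg⟩ := exists_conj_N R hp2 hcell (by
    have : sl hp i (vv y) * k * (sl hp i (vv y))⁻¹ * (sl hp i (vv y) * k * (sl hp i (vv y))⁻¹) =
      sl hp i (vv y) * (k * k) * (sl hp i (vv y))⁻¹ := by group
    rw [this, hkk]; group)
  refine ⟨g * sl hp i (vv y), k', hk', hkk', ?_⟩
  rw [← hg]; group

theorem conj_TT (hp2 : Odd p) (hth : ∀ t : Fin l → Kˣ, th hp t = 1 → t = 1)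
    (hT : ∀ t ∈ TT D K, ∃ b, th hp b = t)
    (hodd : ∀ i j, i ≠ j → cartanOf D l i j ≠ 0 → Odd (cartanOf D l i j) ∨ Odd (cartanOf D l j i)) [Finite W] (N : ℕ) :
    ∀ w : W, cs.length w = N → ∀ k : ↥(D.group K), Rp cs (rgd (K := K) hp cs p).nsys w k → k * k = 1 →
      ∃ g, g * k * g⁻¹ ∈ TT D K := by
  classical
  have R := rgd (K := K) hp cs p
  have h20 : (2 : K) ≠ 0 := by
    intro h
    have h1 : ((2 : ℕ) : K) = 0 := by exact_mod_cast h
    rw [CharP.cast_eq_zero_iff K p] at h1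
    have h2 := (Nat.prime_dvd_prime_iff_eq (Fact.out : p.Prime) Nat.prime_two).1 h1
    rw [h2] at hp2
    exact (by decide : ¬ Odd 2) hp2
  induction N using Nat.strong_induction_on with
  | _ N ih =>
  intro w hwN k hk hkk
  by_cases hw1 : w = 1
  · subst hw1
    refine ⟨1, ?_⟩
    rw [one_mul, inv_one, mul_one]
    exact hk.mem_of_one
  have hww : w * w = 1 := by
    have h1 := hk.mul hk
    rw [hkk] at h1
    exact R.eq_one_of_mem_B h1 (one_mem _)
  by_cases h2 : ∃ i, rep cs hp.isCartan w (sr i) ≤ 0 ∧ rep cs hp.isCartan w (sr i) ≠ -sr i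
  · obtain ⟨i, hi, hne⟩ := h2
    have h3 : Rp cs R.nsys (cs.simple i * w * cs.simple i) (nc hp K i * k * (nc hp K i)⁻¹) := by
      have := ((rp_simple cs R.nsys i).mul hk).mul (rp_simple cs R.nsys i).inv
      rwa [cs.inv_simple] at this
    obtain ⟨g, hg⟩ := ih _ (hwN ▸ length_conj_lt hww hi hne) _ rfl _ h3 (by
      have : nc hp K i * k * (nc hp K i)⁻¹ * (nc hp K i * k * (nc hp K i)⁻¹) =
        nc hp K i * (k * k) * (nc hp K i)⁻¹ := by group
      rw [this, hkk]; group)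
    refine ⟨g * nc hp K i, ?_⟩
    have : g * nc hp K i * k * (g * nc hp K i)⁻¹ = g * (nc hp K i * k * (nc hp K i)⁻¹) * g⁻¹ := by group
    rw [this]; exact hg
  push Not at h2
  have hlt : ∀ i, rep cs hp.isCartan w (sr i) = -sr i → cs.length (cs.simple i * w) < N := by
    intro i hi
    rw [← hwN]
    refine length_simple_mul_lt hww (h := hp.isCartan) ?_
    rw [hi]
    exact neg_nonpos.2 (sr_nonneg i)
  -- the square case
  have hsq : ∀ k : ↥(D.group K), Rp cs R.nsys w k → k * k = 1 → ∀ i, rep cs hp.isCartan w (sr i) = -sr i →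
      (∃ y : K, y ≠ 0 ∧ ∀ a, k * xc hp (sr i) a * k⁻¹ = xc hp (-sr i) (y ^ 2 * a)) →
      ∃ g, g * k * g⁻¹ ∈ TT D K := by
    rintro k hk hkk i hi ⟨y, hy0, e⟩
    obtain ⟨g, k', hk', hkk', hg⟩ := shorter hp p cs hp2 hk hkk hi hy0 e
    obtain ⟨g', hg'⟩ := ih _ (hlt i hi) _ rfl k' hk' hkk'
    refine ⟨g' * g, ?_⟩
    have : g' * g * k * (g' * g)⁻¹ = g' * (g * k * g⁻¹) * g'⁻¹ := by group
    rw [this, hg]; exact hg'
  by_cases h3 : ∃ i, rep cs hp.isCartan w (sr i) = -sr i ∧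
      ∃ y : K, y ≠ 0 ∧ ∀ a, k * xc hp (sr i) a * k⁻¹ = xc hp (-sr i) (y ^ 2 * a)
  · obtain ⟨i, hi, h⟩ := h3
    exact hsq k hk hkk i hi h
  by_cases h4 : ∃ i j, rep cs hp.isCartan w (sr i) = -sr i ∧ rep cs hp.isCartan w (sr j) = -sr j ∧ i ≠ j ∧
      cartanOf D l i j ≠ 0
  · obtain ⟨i, j, hi, hj, hij, hA⟩ : ∃ i j, rep cs hp.isCartan w (sr i) = -sr i ∧
        rep cs hp.isCartan w (sr j) = -sr j ∧ i ≠ j ∧ Odd (cartanOf D l i j) := by
      obtain ⟨i, j, hi, hj, hij, hA⟩ := h4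
      rcases hodd i j hij hA with h5 | h5
      · exact ⟨i, j, hi, hj, hij, h5⟩
      · exact ⟨j, i, hj, hi, hij.symm, h5⟩
    obtain ⟨ci, hci, e1, hθ⟩ := exists_theta hp p cs hk hkk hi
    obtain ⟨cj, hcj, e2, -⟩ := exists_theta hp p cs hk hkk hj
    obtain ⟨g, hg⟩ := twist h20 (sl hp i) k hci hθ cj hcj
    have hk' := rp_dd hp p cs hk i cj hcj
    have hkk' : sl hp i (dd cj hcj) * k * (sl hp i (dd cj hcj) * k) = 1 := by
      rw [← hg]
      have : sl hp i g * k * (sl hp i g)⁻¹ * (sl hp i g * k * (sl hp i g)⁻¹) =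
        sl hp i g * (k * k) * (sl hp i g)⁻¹ := by group
      rw [this, hkk]; group
    obtain ⟨m, hm⟩ : ∃ m : ℤ, 1 - cartanOf D l i j = m + m := by
      obtain ⟨m, hm⟩ := hA
      exact ⟨-m, by omega⟩
    obtain ⟨g', hg'⟩ := hsq _ hk' hkk' j hj ⟨cj ^ m, zpow_ne_zero _ hcj, fun a => by
      have h5 : sl hp i (dd cj hcj) * k * xc hp (sr j) a * (sl hp i (dd cj hcj) * k)⁻¹ =
          sl hp i (dd cj hcj) * (k * xc hp (sr j) a * k⁻¹) * (sl hp i (dd cj hcj))⁻¹ := by group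
      have hs := simple_lt hp.inList (lt_rank hp j)
      have h6 := (act hp (neg_lt hp.inList hs) (hc_mem hp i hcj)).2 (cj * a)
      rw [ch_hc hp i hcj (neg_lt hp.inList hs), cartan_neg' hp (lt_rank hp i) hs, vec_neg hp hs, vec_simple hp j] at h6
      rw [h5, e2, sl_dd, h6, ← mul_assoc]
      congr 2
      have h7 : cj ^ (-D.cartan (i : ℕ) (D.simple j)) * cj = cj ^ (1 - cartanOf D l i j) := by
        rw [← zpow_add_one₀ hcj]
        congr 1
        rw [cartanOf_def]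
        ring
      rw [h7, hm, zpow_add₀ hcj, sq]⟩
    refine ⟨g' * sl hp i g, ?_⟩
    have : g' * sl hp i g * k * (g' * sl hp i g)⁻¹ = g' * (sl hp i g * k * (sl hp i g)⁻¹) * g'⁻¹ := by group
    rw [this, hg]; exact hg'
  push Not at h4
  -- the last case
  exfalso
  set L : List (Fin l) := (Finset.univ.filter fun i => rep cs hp.isCartan w (sr i) = -sr i).toList with hL
  have hmem : ∀ i, i ∈ L ↔ rep cs hp.isCartan w (sr i) = -sr i := by
    intro i
    rw [hL, Finset.mem_toList, Finset.mem_filter]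
    exact ⟨fun h => h.2, fun h => ⟨Finset.mem_univ i, h⟩⟩
  have hnd : L.Nodup := Finset.nodup_toList _
  have horth : Orth (cartanOf D l) L := by
    intro i hi j hj hij
    exact h4 i j ((hmem i).1 hi) ((hmem j).1 hj) hij
  have hwL := eq_wordProd (h := hp.isCartan) hww L hnd hmem (fun i hi => (hmem i).2 (h2 i hi)) horth
  have hwL' : w = cs.wordProd L.reverse := by
    rw [cs.wordProd_reverse]
    exact eq_inv_of_mul_eq_one_left hwL
  have hnd' : L.reverse.Nodup := List.nodup_reverse.2 hnd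
  have horth' : Orth (cartanOf D l) L.reverse := fun i hi j hj hij =>
    horth i (List.mem_reverse.1 hi) j (List.mem_reverse.1 hj) hij
  have hk0 := rp_k0 hp cs p (K := K) L.reverse
  have ht : k * (k0 hp L.reverse)⁻¹ ∈ TT D K := by
    have h5 := hk.mul hk0.inv
    rw [← hwL', mul_inv_cancel] at h5
    exact h5.mem_of_one
  obtain ⟨b, hb⟩ := hT _ ht
  have hkb : k = th hp b * k0 hp L.reverse := by rw [hb]; group
  obtain ⟨i, hi⟩ := exists_neg_simple (cs := cs) (h := hp.isCartan) hw1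
  have hiL : i ∈ L := (hmem i).2 (h2 i hi)
  obtain ⟨y, hy0, e⟩ := last_case hp p hth hnd' horth' b (by rw [← hkb]; exact hkk) (List.mem_reverse.2 hiL)
  rw [← hkb] at e
  exact h3 ⟨i, (hmem i).1 hiL, y, hy0, e⟩

include cs in
/-- **every involution is conjugate into the torus** -/
theorem toral' (hp2 : Odd p) (hth : ∀ t : Fin l → Kˣ, th hp t = 1 → t = 1)
    (hT : ∀ t ∈ TT D K, ∃ b, th hp b = t)
    (hodd : ∀ i j, i ≠ j → cartanOf D l i j ≠ 0 → Odd (cartanOf D l i j) ∨ Odd (cartanOf D l j i))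
    {t : ↥(D.group K)} (ht : t * t = 1) : ∃ g, g * t * g⁻¹ ∈ TT D K := by
  have : Finite W := finite_W hp cs
  have R := rgd (K := K) hp cs p
  have hmem : t ∈ GG cs hp.isCartan (TT D K) (XX D l K) := by
    have h1 : RGD.Sup (XX D l K) {x | IsRoot cs hp.isCartan x} = ⊤ := G1_eq_top hp cs (K := K)
    unfold GG
    rw [h1, sup_top_eq]
    exact Subgroup.mem_top t
  obtain ⟨w, hw⟩ := (mem_GG R).1 hmem
  obtain ⟨g, k, hk, hkk, hg⟩ := exists_conj_N R hp2 hw ht
  obtain ⟨g', hg'⟩ := conj_TT hp p cs hp2 hth hT hodd _ w rfl k hk hkk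
  refine ⟨g' * g, ?_⟩
  have : g' * g * t * (g' * g)⁻¹ = g' * (g * t * g⁻¹) * g'⁻¹ := by group
  rw [this, hg]; exact hg'

end Main

end Cfsg.Agent.H557.Toral
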