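import Cfsg.Agent.Nodes.NormalForm
import Cfsg.Agent.Nodes.Unique
set_option linter.all false

/-!
helper557: the order of the centralizer of an element of the torus in a group with root group data.

* `card_sup_cent` : `|C_U'(s)| = ∏ |C_{X x}(s)|` for `U'` the join over a closed set of positive roots, `s ∈ T`;
* `card_centralizer` : `|C(s)| = |C_U(s)| · |T| · ∑ |C_{U_w}(s)|`, the sum over the `w` fixing `s`.
-/

set_option autoImplicit false
set_option linter.unusedSectionVars false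

namespace Cfsg.Agent.H557.CardCent

open CoxeterSystem Cfsg.Agent.ChevalleyStructure.CoxeterGeom Cfsg.Agent.Tits.Roots Cfsg.Agent.Tits.Core
  Cfsg.Agent.Tits.RootComb Cfsg.Agent.Nodes.Comb Cfsg.Agent.Nodes.Reps Cfsg.Agent.Nodes.BNOf
  Cfsg.Agent.Nodes.BNOf.RGD Cfsg.Agent.Nodes.Unique Cfsg.Agent.Nodes.NormalForm
  Cfsg.Agent.Nodes.Bruhat Cfsg.Agent.Nodes.OppDec

theorem card_mul_of_disj {Y : Type*} [Group Y] {A B C : Subgroup Y} (hA : A ≤ C) (hB : B ≤ C)
    (h : ∀ g ∈ C, ∃ a ∈ A, ∃ b ∈ B, g = a * b) (hd : A ⊓ B = ⊥) :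
    Nat.card C = Nat.card A * Nat.card B := by
  rw [← Nat.card_prod]
  symm
  refine Nat.card_congr (Equiv.ofBijective (fun x : A × B => (⟨x.1 * x.2, mul_mem (hA x.1.2) (hB x.2.2)⟩ : C)) ⟨?_, ?_⟩)
  · rintro ⟨⟨a, ha⟩, ⟨b, hb⟩⟩ ⟨⟨a', ha'⟩, ⟨b', hb'⟩⟩ e
    have ha : a ∈ A := ha
    have hb : b ∈ B := hb
    have ha' : a' ∈ A := ha'
    have hb' : b' ∈ B := hb'
    have e1 : a * b = a' * b' := congrArg Subtype.val e
    have e2 : a'⁻¹ * a = b' * b⁻¹ := by
      rw [inv_mul_eq_iff_eq_mul, ← mul_assoc, ← e1, mul_inv_cancel_right]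
    have e3 : a'⁻¹ * a ∈ A ⊓ B :=
      Subgroup.mem_inf.2 ⟨mul_mem (inv_mem ha') ha, by rw [e2]; exact mul_mem hb' (inv_mem hb)⟩
    rw [hd, Subgroup.mem_bot] at e3
    have e4 : a = a' := (inv_mul_eq_one.1 e3).symm
    subst e4
    have e5 : b = b' := mul_left_cancel e1
    subst e5
    rfl
  · rintro ⟨g, hg⟩
    obtain ⟨a, ha, b, hb, e⟩ := h g hg
    exact ⟨(⟨a, ha⟩, ⟨b, hb⟩), Subtype.ext e.symm⟩

variable {I W Y : Type*} [Fintype I] [DecidableEq I] [Group W] [Group Y] {M : CoxeterMatrix I}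
  {cs : CoxeterSystem M W} {A : I → I → ℤ} {h : IsCartan M A} {p : ℕ} {T : Subgroup Y} {n : I → Y}
  {X : (I → ℤ) → Subgroup Y} (Rd : RGD cs h p T n X)

include Rd

theorem card_sup_fut_cent [Finite W] {t : Y} (ht : t ∈ T) (w : W) {s : Finset (I → ℤ)}
    (hS : (s : Set (I → ℤ)) ⊆ Fut cs h w) (hc : Closed cs h (s : Set (I → ℤ))) :
    Nat.card ↥(Sup X (s : Set (I → ℤ)) ⊓ Subgroup.centralizer {t}) =
      ∏ x ∈ s, Nat.card ↥(X x ⊓ Subgroup.centralizer {t}) := by
  classical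
  induction hn : (Fut cs h w).ncard generalizing w s with
  | zero =>
    have h1 := (Set.ncard_eq_zero (finite_fut w)).1 hn
    rw [h1, Set.subset_empty_iff, Finset.coe_eq_empty] at hS
    subst hS
    have h2 : Sup X ((∅ : Finset (I → ℤ)) : Set (I → ℤ)) = ⊥ := by
      rw [eq_bot_iff]
      refine Sup_le fun z hz => ?_
      simp at hz
    rw [h2, bot_inf_eq, Subgroup.card_bot, Finset.prod_empty]
  | succ k ih =>
    have hne : (Fut cs h w).Nonempty := by
      rw [Set.nonempty_iff_ne_empty]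
      intro h1
      rw [h1, Set.ncard_empty] at hn
      omega
    obtain ⟨y, hy⟩ := hne
    obtain ⟨i, hi⟩ := exists_simple hy
    set x := rep cs h w (sr i) with hxdef
    have hcard : (Fut cs h (w * cs.simple i)).ncard = k := by
      rw [fut_mul hi, Set.ncard_sdiff_singleton_of_mem (mem_fut hi), hn]
      rfl
    have hsub : (s : Set (I → ℤ)) \ {x} ⊆ Fut cs h (w * cs.simple i) := by
      rw [fut_mul hi]
      exact Set.sdiff_subset_sdiff_left hS
    have hcl := closed_diff hi hS hc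
    by_cases hx : x ∈ s
    · have e1 : ((s.erase x : Finset (I → ℤ)) : Set (I → ℤ)) = (s : Set (I → ℤ)) \ {x} := Finset.coe_erase x s
      have key := ih (w * cs.simple i) (s := s.erase x) (by rw [e1]; exact hsub) (by rw [e1]; exact hcl) hcard
      rw [e1] at key
      rw [← Finset.mul_prod_erase s _ hx, ← key]
      have hpos : (s : Set (I → ℤ)) ⊆ Pos cs h := hS.trans (fut_subset_pos w)
      have hxr : IsRoot cs h x := (hpos (Finset.mem_coe.2 hx)).1
      have hbot : X x ⊓ Sup X ((s : Set (I → ℤ)) \ {x}) = ⊥ := by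
        rw [eq_bot_iff, ← tail_inf Rd (w := w) (i := i)]
        exact inf_le_inf_left _ (Sup_mono hsub)
      refine card_mul_of_disj (inf_le_inf_right _ (le_Sup (S := (s : Set (I → ℤ))) (Finset.mem_coe.2 hx)))
        (inf_le_inf_right _ (Sup_mono Set.sdiff_subset)) ?_ ?_
      · rintro g ⟨hg, hgc⟩
        obtain ⟨a, ha, b, hb, rfl⟩ := (mem_peel Rd hpos hc (Finset.mem_coe.2 hx)).1 hg
        have h1 : t * (a * b) = a * b * t := Subgroup.mem_centralizer_iff.1 hgc t rfl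
        have h2 : t * a * t⁻¹ ∈ X x := by
          rw [← Rd.tor x hxr t ht]; exact conj_mem_cj.2 ha
        have h3 : t * b * t⁻¹ ∈ Sup X ((s : Set (I → ℤ)) \ {x}) :=
          (Subgroup.mem_normalizer_iff.1 (Rd.T_le_normalizer (S := (s : Set (I → ℤ)) \ {x})
            (fun z hz => (hpos hz.1).1) ht) b).1 hb
        have h4 : a⁻¹ * (t * a * t⁻¹) = b * (t * b * t⁻¹)⁻¹ := by
          have h5 : (t * a * t⁻¹) * (t * b * t⁻¹) = a * b := by
            have : (t * a * t⁻¹) * (t * b * t⁻¹) = t * (a * b) * t⁻¹ := by group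
            rw [this, h1]; group
          rw [eq_mul_inv_iff_mul_eq, mul_assoc, h5]; group
        have h5 : a⁻¹ * (t * a * t⁻¹) ∈ X x ⊓ Sup X ((s : Set (I → ℤ)) \ {x}) :=
          Subgroup.mem_inf.2 ⟨mul_mem (inv_mem ha) h2, by rw [h4]; exact mul_mem hb (inv_mem h3)⟩
        rw [hbot, Subgroup.mem_bot] at h5
        have hac : t * a * t⁻¹ = a := (inv_mul_eq_one.1 h5).symm
        rw [h5] at h4
        have hbc : t * b * t⁻¹ = b := (mul_inv_eq_one.1 h4.symm).symm
        refine ⟨a, ⟨ha, ?_⟩, b, ⟨hb, ?_⟩, rfl⟩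
        · refine Subgroup.mem_centralizer_iff.2 fun z hz => ?_
          rw [Set.mem_singleton_iff] at hz
          subst hz
          exact mul_inv_eq_iff_eq_mul.1 hac
        · refine Subgroup.mem_centralizer_iff.2 fun z hz => ?_
          rw [Set.mem_singleton_iff] at hz
          subst hz
          exact mul_inv_eq_iff_eq_mul.1 hbc
      · rw [eq_bot_iff, ← hbot]
        exact inf_le_inf inf_le_left inf_le_left
    · have hs : (s : Set (I → ℤ)) \ {x} = s := Set.sdiff_singleton_eq_self (fun h => hx (Finset.mem_coe.1 h))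
      rw [hs] at hsub
      exact ih (w * cs.simple i) hsub hc hcard

/-- the order of the centralizer of a torus element in a join of positive root groups -/
theorem card_sup_cent [Finite W] {t : Y} (ht : t ∈ T) {s : Finset (I → ℤ)} (hS : (s : Set (I → ℤ)) ⊆ Pos cs h)
    (hc : Closed cs h (s : Set (I → ℤ))) :
    Nat.card ↥(Sup X (s : Set (I → ℤ)) ⊓ Subgroup.centralizer {t}) =
      ∏ x ∈ s, Nat.card ↥(X x ⊓ Subgroup.centralizer {t}) := by
  rw [← fut_one] at hS
  exact card_sup_fut_cent Rd ht 1 hS hc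

omit Rd in
theorem closed_NW (w : W) : Closed cs h (NW cs h w) := fun _ hx _ hy _ hz =>
  ⟨hz.1, nonneg_of_btwn hx.2.1 hy.2.1 hz, nonpos_of_btwn hx.2.2 hy.2.2 (hz.act w)⟩

omit Rd in
theorem NW_subset_pos (w : W) : NW cs h w ⊆ Pos cs h := fun _ hx => ⟨hx.1, hx.2.1⟩

omit Rd in
theorem finite_NW [Finite W] (w : W) : (NW cs h w).Finite := finite_pos.subset (NW_subset_pos w)

/-- the fixer in `W` of an element of the torus -/
def fixW (nr : W → Y) (t : Y) : Set W := {w | nr w * t * (nr w)⁻¹ = t}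

/-- **the order of the centralizer of an element of the torus** -/
theorem card_centralizer [Finite W] [Finite Y] (hG : GG cs h T X = ⊤) (hT : ∀ a ∈ T, ∀ b ∈ T, a * b = b * a)
    {t : Y} (ht : t ∈ T) (nr : W → Y) (hnr : ∀ w, Rp cs Rd.nsys w (nr w)) [Fintype W] [DecidablePred (· ∈ fixW nr t)] :
    Nat.card ↥(Subgroup.centralizer {t}) =
      Nat.card ↥(Sup X (Pos cs h) ⊓ Subgroup.centralizer {t}) * Nat.card T *
        ∑ w : W with w ∈ fixW nr t, Nat.card ↥(Sup X (NW cs h w) ⊓ Subgroup.centralizer {t}) := by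
  classical
  set C := Subgroup.centralizer ({t} : Set Y) with hC
  have hTC : T ≤ C := by
    intro a ha
    refine Subgroup.mem_centralizer_iff.2 fun z hz => ?_
    rw [Set.mem_singleton_iff] at hz
    subst hz
    exact hT z ht a ha
  have hnC : ∀ w, w ∈ fixW nr t ↔ nr w ∈ C := by
    intro w
    rw [hC, Subgroup.mem_centralizer_iff]
    constructor
    · intro h1 z hz
      rw [Set.mem_singleton_iff] at hz
      subst hz
      exact (mul_inv_eq_iff_eq_mul.1 h1).symm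
    · intro h1
      exact mul_inv_eq_iff_eq_mul.2 (h1 t rfl).symm
  -- the bijection
  let f : (↥(Sup X (Pos cs h) ⊓ C) × T) × (Σ w : {w : W // w ∈ fixW nr t}, ↥(Sup X (NW cs h w.1) ⊓ C)) → C :=
    fun x => ⟨x.1.1 * (x.1.2 * nr x.2.1.1) * x.2.2, mul_mem (mul_mem (Subgroup.mem_inf.1 x.1.1.2).2
      (mul_mem (hTC x.1.2.2) ((hnC _).1 x.2.1.2))) (Subgroup.mem_inf.1 x.2.2.2).2⟩
  have hrp : ∀ (a : T) (w : W), Rp cs Rd.nsys w ((a : Y) * nr w) := by
    intro a w
    have := (rp_of_mem (cs := cs) (hN := Rd.nsys) a.2).mul (hnr w)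
    rwa [one_mul] at this
  have hf : Function.Bijective f := by
    constructor
    · rintro ⟨⟨⟨u, hu⟩, a⟩, ⟨⟨w, hw⟩, ⟨v, hv⟩⟩⟩ ⟨⟨⟨u', hu'⟩, a'⟩, ⟨⟨w', hw'⟩, ⟨v', hv'⟩⟩⟩ e
      have e1 : u * (a * nr w) * v = u' * (a' * nr w') * v' := congrArg Subtype.val e
      have hcell : ∀ {u v : Y} {w : W} (a : T), u ∈ Sup X (Pos cs h) ⊓ C → v ∈ Sup X (NW cs h w) ⊓ C →
          Cell Rd.nsys cs h X w (u * (a * nr w) * v) := by
        intro u v w a hu hv
        refine ⟨u, U_le_B (Subgroup.mem_inf.1 hu).1, _, hrp a w, v,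
          U_le_B (Sup_mono (NW_subset_pos w) (Subgroup.mem_inf.1 hv).1), rfl⟩
      have hww : w = w' := by
        have h1 := hcell (w := w) a hu hv
        rw [e1] at h1
        exact Cell.unique Rd h1 (hcell (w := w') a' hu' hv')
      subst hww
      obtain ⟨h1, h2, h3⟩ := normal_form_unique Rd (Subgroup.mem_inf.1 hu).1 (Subgroup.mem_inf.1 hu').1 (hrp a w)
        (hrp a' w) (Subgroup.mem_inf.1 hv).1 (Subgroup.mem_inf.1 hv').1 e1
      have h4 : a = a' := Subtype.ext (mul_right_cancel h2)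
      subst h1 h3 h4
      rfl
    · rintro ⟨g, hg⟩
      have hgG : g ∈ GG cs h T X := by rw [hG]; exact Subgroup.mem_top g
      obtain ⟨w, hw⟩ := (mem_GG Rd).1 hgG
      obtain ⟨u, hu, k, hk, v, hv, rfl⟩ := exists_normal_form Rd hw
      obtain ⟨h1, h2, h3⟩ := centralizer_form Rd (S := {t}) (by
        rw [Set.singleton_subset_iff]; exact ht) hu hk hv hg
      have h4 : k * (nr w)⁻¹ ∈ T := by
        have := hk.mul (hnr w).inv
        rw [mul_inv_cancel] at this
        exact this.mem_of_one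
      have h5 : nr w ∈ C := by
        have : nr w = (k * (nr w)⁻¹)⁻¹ * k := by group
        rw [this]
        exact mul_mem (inv_mem (hTC h4)) h2
      refine ⟨⟨⟨⟨u, Subgroup.mem_inf.2 ⟨hu, h1⟩⟩, ⟨k * (nr w)⁻¹, h4⟩⟩, ⟨⟨w, (hnC w).2 h5⟩, ⟨v, Subgroup.mem_inf.2 ⟨hv, h3⟩⟩⟩⟩, ?_⟩
      apply Subtype.ext
      show u * (k * (nr w)⁻¹ * nr w) * v = u * k * v
      group
  rw [← Nat.card_congr (Equiv.ofBijective f hf), Nat.card_prod, Nat.card_prod, Nat.card_sigma]
  congr 1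
  rw [← Finset.sum_subtype_eq_sum_filter]
  refine Finset.sum_bij (fun x _ => ⟨x.1, x.2⟩) ?_ ?_ ?_ ?_
  · intro a _; exact Finset.mem_subtype.2 (Finset.mem_univ _)
  · rintro ⟨a, ha⟩ _ ⟨b, hb⟩ _ e
    exact e
  · rintro ⟨a, ha⟩ _
    exact ⟨⟨a, ha⟩, Finset.mem_univ _, rfl⟩
  · intro a _; rfl

end Cfsg.Agent.H557.CardCent
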